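import Cfsg.Agent.Lib.Small.SelfCent.Main
import Cfsg.Agent.Lib.Small.SylowHom.Exceptions
import Cfsg.Agent.Lib.Lie.TorusCerts
import Cfsg.Agent.Lib.Lie.WeylF4
import Cfsg.Agent.Lib.Lie.WeylE8
import Cfsg.Agent.Lib.Lie.FactsE8

/-!
The tori of orders q^4 + 1 in F4(q) and Φ30(q) in E8(q).
-/

set_option autoImplicit false
set_option linter.unusedSectionVars false

namespace Cfsg.Agent.Small.SelfCent

open Cfsg.Lie Cfsg.Agent.Lie Cfsg.Agent.Small.SylowHom Matrix Polynomial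

/-- A prime for which q has order exactly d. -/
theorem exists_ord {q d : ℕ} (hd : 0 < d) (hbig : d < ((cyclotomic d ℤ).eval (q : ℤ)).natAbs)
    (hsmall : ∀ p : ℕ, p.Prime → p ∣ d → ¬ p ^ 2 ∣ ((cyclotomic d ℤ).eval (q : ℤ)).natAbs) :
    ∃ r : ℕ, ∃ _ : Fact r.Prime, orderOf (q : ZMod r) = d ∧ d ∣ r - 1 := by
  set N := ((cyclotomic d ℤ).eval (q : ℤ)).natAbs with hN
  obtain ⟨r, hr, hrN, hrd⟩ : ∃ r, r.Prime ∧ r ∣ N ∧ ¬ r ∣ d := by
    by_contra hc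
    push Not at hc
    have hsq : Squarefree N := Nat.squarefree_iff_prime_squarefree.2 fun p hp h => hsmall p hp
      (hc p hp ((dvd_mul_right p p).trans h)) (by rwa [pow_two])
    have h1 : N ∣ d := by
      rw [← Nat.prod_primeFactors_of_squarefree hsq]
      refine Finset.prod_primes_dvd _ (fun p hp => (Nat.prime_of_mem_primeFactors hp).prime) fun p hp => ?_
      exact hc p (Nat.prime_of_mem_primeFactors hp) (Nat.dvd_of_mem_primeFactors hp)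
    exact absurd (Nat.le_of_dvd hd h1) (by omega)
  have := Fact.mk hr
  have : NeZero (d : ZMod r) := ⟨fun h => hrd ((ZMod.natCast_eq_zero_iff _ _).1 h)⟩
  have hroot : IsPrimitiveRoot (q : ZMod r) d := by
    refine isRoot_cyclotomic_iff.1 ?_
    have h := (ZMod.intCast_zmod_eq_zero_iff_dvd _ r).2 (Int.natCast_dvd.2 hrN)
    rw [IsRoot.def, ← map_cyclotomic d (Int.castRingHom (ZMod r)), eval_map, ← h]
    simpa using (hom_eval₂ (cyclotomic d ℤ) (RingHom.id ℤ) (Int.castRingHom (ZMod r)) (q : ℤ)).symm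
  refine ⟨r, ⟨hr⟩, hroot.eq_orderOf.symm, hroot.eq_orderOf ▸ orderOf_dvd_of_pow_eq_one ?_⟩
  refine ZMod.pow_card_sub_one_eq_one fun h => ?_
  rw [h] at hroot
  exact hd.ne' (hroot.eq_orderOf.trans (orderOf_zero (ZMod r)))

/-- When φ(d) is the rank, only Φd occurs. -/
theorem only_of_totient {D : ChevalleyDatum} (hF : Facts D) {k : ℕ} {dd : Fin k → ℕ}
    (Kc : KerCert (cartanSys D) dd) (hd0 : ∀ a, dd a ≠ 0) {ds : List ℕ}
    (hlen : ∀ q, hF.lenSum (List.range D.rank) q = (ds.map fun e => ∑ j ∈ Finset.range e, q ^ j).prod)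
    {d : ℕ} (hφ : Nat.totient d = D.rank) : Only D ds d (cyclotomic d ℤ) := by
  intro Ω r _ hr ζ hζ hne
  have hM := wmat_pow hF Kc hd0 Ω
  rw [card_weyl_eq hF hlen] at hM
  obtain ⟨s, hs, hse, hsum, hle⟩ := exists_factors (wmat Ω) (Nat.pos_of_ne_zero fun h => hr (by rw [h]; exact dvd_zero r)) hM
    (ZMod r) (fun h => hr ((ZMod.natCast_eq_zero_iff _ _).1 h)) hζ
  rw [Fintype.card_fin] at hsum
  have h1 : 1 ≤ s.count d := le_trans (Nat.one_le_iff_ne_zero.2 fun h => hne (Submodule.finrank_eq_zero.1 h)) hle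
  obtain ⟨t, rfl, ht, hst⟩ := charpoly_facts hs hsum h1
  rw [eq_zero_of_totient ht (by omega), add_zero, Multiset.replicate_one] at hse
  simpa using hse

theorem cyclotomic_eight : cyclotomic 8 ℤ = X ^ 4 + 1 := by
  rw [show (8 : ℕ) = 2 ^ (2 + 1) from rfl, cyclotomic_prime_pow_eq_geom_sum Nat.prime_two]
  simp [Finset.sum_range_succ, add_comm]

theorem cyclotomic_thirty :
    cyclotomic 30 ℤ = X ^ 8 + X ^ 7 - X ^ 5 - X ^ 4 - X ^ 3 + X + 1 := by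
  have : Fact (Nat.Prime 5) := ⟨Nat.prime_five⟩
  have h5 : cyclotomic 5 ℤ = X ^ 4 + X ^ 3 + X ^ 2 + X + 1 := by
    rw [cyclotomic_prime ℤ 5]
    simp [Finset.sum_range_succ]
    ring
  have h10 : cyclotomic 10 ℤ = X ^ 4 - X ^ 3 + X ^ 2 - X + 1 := by
    have h := cyclotomic_expand_eq_cyclotomic_mul Nat.prime_two (show ¬ 2 ∣ 5 by decide) ℤ
    refine mul_right_cancel₀ (cyclotomic_ne_zero 5 ℤ) ?_
    rw [show (10 : ℕ) = 5 * 2 from rfl, ← h, h5]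
    simp only [map_add, map_pow, expand_X, map_one]
    ring
  have h := cyclotomic_expand_eq_cyclotomic_mul Nat.prime_three (show ¬ 3 ∣ 10 by decide) ℤ
  refine mul_right_cancel₀ (cyclotomic_ne_zero 10 ℤ) ?_
  rw [show (30 : ℕ) = 10 * 3 from rfl, ← h, h10]
  simp only [map_add, map_sub, map_pow, expand_X, map_one]
  ring

theorem torus_F4 {F : Type*} [Field F] [Fintype F] {q : ℕ} (hq : Fintype.card F = q) :
    ∃ H : Subgroup ↥(chevF4.group F), IsCyclic ↥H ∧ Nat.card ↥H = q ^ 4 + 1 ∧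
      Subgroup.centralizer (H : Set ↥(chevF4.group F)) = H := by
  have hq2 : 2 ≤ q := hq ▸ Fintype.one_lt_card
  have hev : ((cyclotomic 8 ℤ).eval (q : ℤ)).natAbs = q ^ 4 + 1 := by
    rw [cyclotomic_eight]
    simp only [eval_add, eval_pow, eval_X, eval_one]
    rw [show ((q : ℤ) ^ 4 + 1) = ((q ^ 4 + 1 : ℕ) : ℤ) by push_cast; rfl, Int.natAbs_natCast]
  have hsmall : ∀ p : ℕ, p.Prime → p ∣ 8 → ¬ p ^ 2 ∣ ((cyclotomic 8 ℤ).eval (q : ℤ)).natAbs := by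
    intro p hp h8
    obtain rfl : p = 2 := (Nat.prime_dvd_prime_iff_eq hp Nat.prime_two).1 (hp.dvd_of_dvd_pow (show p ∣ 2 ^ 3 from h8))
    rw [hev, ← ZMod.natCast_eq_zero_iff]
    push_cast
    exact (by decide : ∀ t : ZMod 4, t ^ 4 + 1 ≠ 0) _
  obtain ⟨r, hr, hord, hd⟩ := exists_ord (by norm_num) (by
    rw [hev]; have : 2 ^ 4 ≤ q ^ 4 := Nat.pow_le_pow_left hq2 4; omega) hsmall
  have hrW : ¬ r ∣ [2, 6, 8, 12].prod := by
    intro h
    obtain ⟨m, hm⟩ := hd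
    have := hr.out.two_le
    have hle := Nat.le_of_dvd (by norm_num) h
    have hrp := hr.out
    rcases (show r ∣ 2 ∨ r ∣ 3 from by
      have h1 : r ∣ 2 ^ 7 * 3 ^ 2 := h
      exact (hrp.dvd_mul.1 h1).imp hrp.dvd_of_dvd_pow hrp.dvd_of_dvd_pow) with h2 | h3
    · have := Nat.le_of_dvd (by norm_num) h2; omega
    · have := Nat.le_of_dvd (by norm_num) h3; omega
  obtain ⟨H, h1, h2, h3⟩ := self_cent factsF4 hq kerCertF4 (ds := [2, 6, 8, 12]) rfl lenSumF4 (d := 8) (by decide)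
    (only_of_totient factsF4 kerCertF4 (fun a => a.elim0) lenSumF4 (by decide +kernel))
    (cyclotomic.dvd_X_pow_sub_one 8 ℤ) hord (by norm_num) hrW hsmall
  exact ⟨H, h1, h2.trans hev, h3⟩

theorem torus_E8 {F : Type*} [Field F] [Fintype F] {q : ℕ} (hq : Fintype.card F = q) :
    ∃ H : Subgroup ↥(chevE8.group F), IsCyclic ↥H ∧
      Nat.card ↥H = q ^ 8 + q ^ 7 - q ^ 5 - q ^ 4 - q ^ 3 + q + 1 ∧
      Subgroup.centralizer (H : Set ↥(chevE8.group F)) = H := by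
  have hq2 : 2 ≤ q := hq ▸ Fintype.one_lt_card
  have hle : q ^ 5 + q ^ 4 + q ^ 3 ≤ q ^ 7 := by
    have h3 : q ^ 3 ≤ q ^ 4 := Nat.pow_le_pow_right (by omega) (by norm_num)
    have h4 : 2 * q ^ 4 ≤ q ^ 5 := by rw [pow_succ' q 4]; exact Nat.mul_le_mul_right _ hq2
    have h5 : 2 * q ^ 5 ≤ q ^ 6 := by rw [pow_succ' q 5]; exact Nat.mul_le_mul_right _ hq2
    have h6 : 2 * q ^ 6 ≤ q ^ 7 := by rw [pow_succ' q 6]; exact Nat.mul_le_mul_right _ hq2
    omega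
  set N := q ^ 8 + q ^ 7 - q ^ 5 - q ^ 4 - q ^ 3 + q + 1 with hN
  have hNz : (N : ℤ) = (q : ℤ) ^ 8 + (q : ℤ) ^ 7 - (q : ℤ) ^ 5 - (q : ℤ) ^ 4 - (q : ℤ) ^ 3 + q + 1 := by
    rw [hN]
    push_cast [show q ^ 5 ≤ q ^ 8 + q ^ 7 by omega, show q ^ 4 ≤ q ^ 8 + q ^ 7 - q ^ 5 by omega,
      show q ^ 3 ≤ q ^ 8 + q ^ 7 - q ^ 5 - q ^ 4 by omega]
    ring
  have hev : ((cyclotomic 30 ℤ).eval (q : ℤ)).natAbs = N := by
    rw [cyclotomic_thirty]
    simp only [eval_add, eval_sub, eval_pow, eval_X, eval_one]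
    rw [← hNz, Int.natAbs_natCast]
  have hsmall : ∀ p : ℕ, p.Prime → p ∣ 30 → ¬ p ^ 2 ∣ ((cyclotomic 30 ℤ).eval (q : ℤ)).natAbs := by
    intro p hp h30
    have hp5 : p = 2 ∨ p = 3 ∨ p = 5 := by
      rcases hp.dvd_mul.1 (show p ∣ 2 * 15 from h30) with h | h
      · exact Or.inl ((Nat.prime_dvd_prime_iff_eq hp Nat.prime_two).1 h)
      rcases hp.dvd_mul.1 (show p ∣ 3 * 5 from h) with h | h
      · exact Or.inr (Or.inl ((Nat.prime_dvd_prime_iff_eq hp Nat.prime_three).1 h))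
      · exact Or.inr (Or.inr ((Nat.prime_dvd_prime_iff_eq hp Nat.prime_five).1 h))
    intro hdiv
    have h : p ∣ N := (dvd_pow_self p two_ne_zero).trans (hev ▸ hdiv)
    have h0 := (ZMod.natCast_eq_zero_iff N p).2 h
    rw [← Int.cast_natCast, hNz] at h0
    push_cast at h0
    rcases hp5 with rfl | rfl | rfl
    · exact (by decide : ∀ t : ZMod 2, t ^ 8 + t ^ 7 - t ^ 5 - t ^ 4 - t ^ 3 + t + 1 ≠ 0) _ h0
    · exact (by decide : ∀ t : ZMod 3, t ^ 8 + t ^ 7 - t ^ 5 - t ^ 4 - t ^ 3 + t + 1 ≠ 0) _ h0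
    · exact (by decide : ∀ t : ZMod 5, t ^ 8 + t ^ 7 - t ^ 5 - t ^ 4 - t ^ 3 + t + 1 ≠ 0) _ h0
  obtain ⟨r, hr, hord, hd⟩ := exists_ord (by norm_num) (by
    rw [hev, hN]; have : 2 ^ 8 ≤ q ^ 8 := Nat.pow_le_pow_left hq2 8; omega) hsmall
  have hrW : ¬ r ∣ [2, 8, 12, 14, 18, 20, 24, 30].prod := by
    intro h
    obtain ⟨m, hm⟩ := hd
    have hrp := hr.out
    have := hrp.two_le
    obtain ⟨e, he, hre⟩ := hrp.prime.dvd_prod_iff.1 h
    have h1 := Nat.le_of_dvd (by fin_cases he <;> norm_num) hre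
    have h2 : e ≤ 30 := by fin_cases he <;> norm_num
    omega
  obtain ⟨H, h1, h2, h3⟩ := self_cent factsE8 hq kerCertE8 (ds := [2, 8, 12, 14, 18, 20, 24, 30]) rfl lenSumE8
    (d := 30) (by decide) (only_of_totient factsE8 kerCertE8 (fun a => a.elim0) lenSumE8 (by decide +kernel))
    (cyclotomic.dvd_X_pow_sub_one 30 ℤ) hord (by norm_num) hrW hsmall
  exact ⟨H, h1, h2.trans hev, h3⟩

end Cfsg.Agent.Small.SelfCent
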