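import Cfsg.Agent.Lib.Small.SelfCent.MainLift
import Cfsg.Agent.Lib.Small.SelfCent.F4E8
import Cfsg.Agent.Lib.Small.SylowHom.Bounds
import Cfsg.Agent.Lib.Lie.MinusculeCerts

/-!
The torus of order Φ12(q) Φ3(q) / gcd(3, q - 1) in E6(q): an element of the Weyl group with a primitive
twelfth root of unity as eigenvalue has characteristic polynomial Φ12 Φ3.
-/

set_option autoImplicit false
set_option linter.unusedSectionVars false

namespace Cfsg.Agent.Small.SelfCent

open Cfsg.Lie Cfsg.Agent.Lie Cfsg.Agent.Small.SylowHom Matrix Polynomial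

theorem cyclotomic_twelve : cyclotomic 12 ℤ = X ^ 4 - X ^ 2 + 1 := by
  have h4 : cyclotomic 4 ℤ = X ^ 2 + 1 := by
    rw [show (4 : ℕ) = 2 ^ (1 + 1) from rfl, cyclotomic_prime_pow_eq_geom_sum Nat.prime_two]
    simp [Finset.sum_range_succ, add_comm]
  have h := cyclotomic_expand_eq_cyclotomic_mul Nat.prime_three (show ¬ 3 ∣ 4 by decide) ℤ
  refine mul_right_cancel₀ (cyclotomic_ne_zero 4 ℤ) ?_
  rw [show (12 : ℕ) = 4 * 3 from rfl, ← h, h4]
  simp only [map_add, map_pow, expand_X, map_one]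
  ring

theorem totient_two {a : ℕ} (h : a.totient = 2) : a = 3 ∨ a = 4 ∨ a = 6 := by
  have ha : 0 < a := Nat.totient_pos.1 (by omega)
  have hno : ∀ b : ℕ, b ∣ a → b.totient ≤ 2 := fun b hb =>
    Nat.le_of_dvd two_pos (h ▸ Nat.totient_dvd_of_dvd hb)
  have h12 : a ∣ 12 := by
    refine (Nat.dvd_iff_prime_pow_dvd_dvd 12 a).2 fun p k hp hk => ?_
    rcases Nat.eq_zero_or_pos k with rfl | hk0
    · simp
    have hp3 : p ≤ 3 := by
      have h1 := hno p ((dvd_pow_self p hk0.ne').trans hk)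
      rw [Nat.totient_prime hp] at h1
      omega
    rcases (show p = 2 ∨ p = 3 by have := hp.two_le; omega) with rfl | rfl
    · have : k ≤ 2 := by
        by_contra hc
        have h1 := hno 8 ((pow_dvd_pow 2 (show 3 ≤ k by omega)).trans hk)
        exact absurd h1 (by decide)
      exact (pow_dvd_pow 2 this).trans (by norm_num)
    · have : k ≤ 1 := by
        by_contra hc
        have h1 := hno 9 ((pow_dvd_pow 3 (show 2 ≤ k by omega)).trans hk)
        exact absurd h1 (by decide)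
      exact (pow_dvd_pow 3 this).trans (by norm_num)
  have h13 : a < 13 := Nat.lt_succ_of_le (Nat.le_of_dvd (by norm_num) h12)
  exact (by decide : ∀ a < 13, Nat.totient a = 2 → a ∣ 12 → a = 3 ∨ a = 4 ∨ a = 6) a h13 h h12

theorem totient_sum_two {t : Multiset ℕ} (ht : ∀ e ∈ t, 0 < e) (h : (t.map Nat.totient).sum = 2) :
    t = {1, 1} ∨ t = {1, 2} ∨ t = {2, 1} ∨ t = {2, 2} ∨ t = {3} ∨ t = {4} ∨ t = {6} := by
  induction t using Multiset.induction_on with
  | empty => simp at h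
  | cons e t _ =>
    rw [Multiset.map_cons, Multiset.sum_cons] at h
    have h1 := Nat.totient_pos.2 (ht e (Multiset.mem_cons_self _ _))
    have ht' : ∀ x ∈ t, 0 < x := fun x hx => ht x (Multiset.mem_cons_of_mem hx)
    rcases (show e.totient = 1 ∨ e.totient = 2 by omega) with h2 | h2
    · rcases eq_singleton_of_totient ht' (by omega) with rfl | rfl <;>
        rcases Nat.totient_eq_one_iff.1 h2 with rfl | rfl <;> simp [Multiset.insert_eq_cons]
    · obtain rfl := eq_zero_of_totient ht' (by omega)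
      rcases totient_two h2 with rfl | rfl | rfl <;> simp

theorem even_cE6 (w : Fin 6 → ℤ) : (2 : ℤ) ∣ w ⬝ᵥ (cE6 *ᵥ w) := by
  refine ⟨w 0 * w 0 + w 1 * w 1 + w 2 * w 2 + w 3 * w 3 + w 4 * w 4 + w 5 * w 5
    - w 0 * w 2 - w 1 * w 3 - w 2 * w 3 - w 3 * w 4 - w 4 * w 5, ?_⟩
  simp [cE6, dotProduct, Matrix.mulVec, Fin.sum_univ_six]
  ring

/-- An orthogonal splitting of the root lattice is trivial. -/
theorem e6_idem (P : Matrix (Fin 6) (Fin 6) ℤ) (hPP : P * P = P) (hsym : Pᵀ * cE6 = cE6 * P) : P = 0 ∨ P = 1 := by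
  have hnn : ∀ w : Fin 6 → ℤ, 0 ≤ w ⬝ᵥ (cE6 *ᵥ w) := fun w => by
    rcases eq_or_ne w 0 with rfl | hw
    · simp
    · exact (pos_six w hw).le
  have hQ : ∀ (R : Matrix (Fin 6) (Fin 6) ℤ) (i : Fin 6),
      (Rᵀ * cE6 * R) i i = (fun k => R k i) ⬝ᵥ (cE6 *ᵥ fun k => R k i) := fun R i => by
    rw [Matrix.mul_assoc]; rfl
  have h1 : Pᵀ * cE6 * P = cE6 * P := by rw [hsym, Matrix.mul_assoc, hPP]
  have h2 : (1 - P)ᵀ * cE6 * (1 - P) = cE6 - cE6 * P := by
    rw [Matrix.transpose_sub, Matrix.transpose_one, sub_mul, sub_mul, one_mul, mul_sub, mul_sub, mul_one, mul_one, h1, hsym]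
    abel
  have hcol : ∀ i, (∀ k, P k i = 0) ∨ (∀ k, P k i = (1 : Matrix (Fin 6) (Fin 6) ℤ) k i) := by
    intro i
    by_cases hz : (fun k => P k i) = 0
    · exact Or.inl (congrFun hz)
    right
    have ha := pos_six _ hz
    obtain ⟨b, hb⟩ := even_cE6 fun k => P k i
    have hc : cE6 i i = 2 := (by decide : ∀ i : Fin 6, cE6 i i = 2) i
    have hs : (fun k => P k i) ⬝ᵥ (cE6 *ᵥ fun k => P k i) +
        (fun k => (1 - P) k i) ⬝ᵥ (cE6 *ᵥ fun k => (1 - P) k i) = 2 := by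
      rw [← hQ, ← hQ, h1, h2, Matrix.sub_apply, hc]; ring
    by_contra hne
    have hz2 : (fun k => (1 - P) k i) ≠ 0 := fun h => hne fun k => by
      have := congrFun h k
      simp only [Matrix.sub_apply, Pi.zero_apply, sub_eq_zero] at this
      exact this.symm
    have hb2 := pos_six _ hz2
    omega
  have hdiag : ∀ i k, k ≠ i → P k i = 0 := fun i k hki => by
    rcases hcol i with h | h
    · exact h k
    · rw [h k, Matrix.one_apply_ne hki]
  have hedge : ∀ i j, cE6 i j ≠ 0 → P i i = P j j := by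
    intro i j hij
    have h := congrFun (congrFun hsym i) j
    rw [Matrix.mul_apply, Matrix.mul_apply, Finset.sum_eq_single i
      (fun b _ hb => by rw [Matrix.transpose_apply, hdiag i b hb, zero_mul])
      (fun h => absurd (Finset.mem_univ i) h), Finset.sum_eq_single j
      (fun b _ hb => by rw [hdiag j b hb, mul_zero]) (fun h => absurd (Finset.mem_univ j) h),
      Matrix.transpose_apply, mul_comm (cE6 i j)] at h
    exact mul_right_cancel₀ hij h
  have e02 := hedge 0 2 (by decide)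
  have e13 := hedge 1 3 (by decide)
  have e23 := hedge 2 3 (by decide)
  have e34 := hedge 3 4 (by decide)
  have e45 := hedge 4 5 (by decide)
  have hall : ∀ i, P i i = P 0 0 := fun i => by fin_cases i <;> simp <;> omega
  rcases hcol 0 with h | h
  · left
    ext k i
    by_cases hki : k = i
    · subst hki; rw [hall, h 0]; rfl
    · exact hdiag i k hki
  · right
    ext k i
    by_cases hki : k = i
    · subst hki; rw [hall, h 0, Matrix.one_apply_eq, Matrix.one_apply_eq]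
    · rw [hdiag i k hki, Matrix.one_apply_ne hki]

theorem e6_split (M : Matrix (Fin 6) (Fin 6) ℤ) (hC : Mᵀ * cE6 * M = cE6)
    (hf : (M ^ 4 - M ^ 2 + 1) * (M ^ 2 - 1) = 0) (v : Fin 6 → ℤ) (hv0 : v ≠ 0) (hv : M *ᵥ v = v) :
    M ^ 2 = 1 := by
  set f := (M ^ 4 - M ^ 2 + 1) * (M ^ 2 - 1) with hfdef
  have h12 : M ^ 12 = 1 := by
    refine sub_eq_zero.1 ?_
    have e : M ^ 12 - 1 = (M ^ 6 + 2 • M ^ 4 + 2 • M ^ 2 + 1) * f := by rw [hfdef]; noncomm_ring
    rw [e, hf, mul_zero]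
  set P := M ^ 4 - M ^ 2 + 1 with hP
  have hPP : P * P = P := by
    refine sub_eq_zero.1 ?_
    have e : P * P - P = M ^ 2 * f := by rw [hfdef, hP]; noncomm_ring
    rw [e, hf, mul_zero]
  have hT : Mᵀ * cE6 = cE6 * M ^ 11 := by
    calc Mᵀ * cE6 = Mᵀ * cE6 * M ^ 12 := by rw [h12, mul_one]
      _ = Mᵀ * cE6 * M * M ^ 11 := by rw [pow_succ' M 11]; simp only [Matrix.mul_assoc]
      _ = _ := by rw [hC]
  have hTk : ∀ k, Mᵀ ^ k * cE6 = cE6 * M ^ (11 * k) := by
    intro k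
    induction k with
    | zero => simp
    | succ k ih =>
      calc Mᵀ ^ (k + 1) * cE6 = Mᵀ ^ k * (Mᵀ * cE6) := by rw [pow_succ, Matrix.mul_assoc]
        _ = Mᵀ ^ k * cE6 * M ^ 11 := by rw [hT, Matrix.mul_assoc]
        _ = cE6 * (M ^ (11 * k) * M ^ 11) := by rw [ih, Matrix.mul_assoc]
        _ = _ := by rw [← pow_add]; rfl
  have hsym : Pᵀ * cE6 = cE6 * P := by
    rw [hP, Matrix.transpose_add, Matrix.transpose_sub, Matrix.transpose_one, Matrix.transpose_pow,
      Matrix.transpose_pow, add_mul, sub_mul, one_mul, hTk, hTk, pow_eq_pow_mod (11 * 4) h12,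
      pow_eq_pow_mod (11 * 2) h12]
    have e : M ^ (11 * 4 % 12) - M ^ (11 * 2 % 12) = (M ^ 4 - M ^ 2) + (-(M ^ 2 * (M ^ 2 + 1))) * f := by
      rw [hfdef, hP]; norm_num; noncomm_ring
    rw [← mul_sub, e, hf, mul_zero, add_zero, mul_add, mul_one]
  rcases e6_idem P hPP hsym with h | h
  · refine absurd ?_ hv0
    have hpow : ∀ k : ℕ, M ^ k *ᵥ v = v := by
      intro k
      induction k with
      | zero => simp
      | succ k ih => rw [pow_succ, ← Matrix.mulVec_mulVec, hv, ih]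
    have h1 := congrArg (fun A : Matrix (Fin 6) (Fin 6) ℤ => A *ᵥ v) h
    simp only [hP, Matrix.add_mulVec, Matrix.sub_mulVec, hpow, Matrix.one_mulVec, Matrix.zero_mulVec, sub_self,
      zero_add] at h1
    exact h1
  · refine sub_eq_zero.1 ?_
    have e : M ^ 2 - 1 = M ^ 10 * (P - 1) - (M ^ 12 - 1) * (M ^ 2 - 1) := by rw [hP]; noncomm_ring
    rw [e, h, sub_self, mul_zero, h12, sub_self, zero_mul, sub_zero]

theorem only_E6 : Only chevE6 [2, 5, 6, 8, 9, 12] 12 (cyclotomic 12 ℤ * cyclotomic 3 ℤ) := by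
  intro Ω r _ hr ζ hζ hne
  have hM := wmat_pow factsE6 kerCertE6 (by decide) Ω
  rw [card_weyl_eq factsE6 lenSumE6] at hM
  set N := [2, 5, 6, 8, 9, 12].prod
  obtain ⟨s, hs, hse, hsum, hle⟩ := exists_factors (wmat Ω) (Nat.pos_of_ne_zero fun h => hr (by rw [h]; exact dvd_zero r)) hM
    (ZMod r) (fun h => hr ((ZMod.natCast_eq_zero_iff _ _).1 h)) hζ
  rw [Fintype.card_fin] at hsum
  have h1 : 1 ≤ s.count 12 := le_trans (Nat.one_le_iff_ne_zero.2 fun h => hne (Submodule.finrank_eq_zero.1 h)) hle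
  obtain ⟨t, rfl, ht, hst⟩ := charpoly_facts hs hsum h1
  rw [show Nat.totient 12 = 4 by decide, one_mul, show chevE6.rank = 6 by rfl] at hst
  have : Fact (Nat.Prime 3) := ⟨Nat.prime_three⟩
  have he : ∀ i, (3 : ℤ) ∣ Matrix.mulVec (cmat chevE6) eE6 i := by decide +kernel
  have hfix : ∀ j, (3 : ℤ) ∣ (wmat Ω *ᵥ (eE6 : Fin 6 → ℤ)) j - eE6 j := fun j => wmat_fix (D := chevE6) (3 : ℤ) (eE6 : Fin 6 → ℤ) he Ω j
  have h3 := dvd_eval_one (p := 3) (wmat Ω) (eE6 : Fin 6 → ℤ) (0 : Fin 6) (by decide) hfix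
  rw [Multiset.replicate_one, Multiset.singleton_add, Multiset.map_cons, Multiset.prod_cons] at hse
  have hbad : ∀ (g : ℤ[X]) (k : ℕ), (wmat Ω).charpoly.eval 1 = 0 → (wmat Ω).charpoly ∣ g ^ k →
      g = cyclotomic 12 ℤ * (X ^ 2 - 1) → False := by
    intro g k he1 hdvd hg
    have hform := wmat_form (D := chevE6) (by decide +kernel) (by decide +kernel) Ω
    rw [show cmat chevE6 = cE6 from
      (by decide +kernel : (Matrix.of fun i j : Fin 6 => cartanSys chevE6 i j) = cE6)] at hform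
    have h0 := aeval_radical (wmat Ω) (Nat.pos_of_ne_zero fun h => hr (by rw [h]; exact dvd_zero r)) hM hdvd
    rw [hg, cyclotomic_twelve] at h0
    simp only [map_mul, map_add, map_sub, map_pow, aeval_X, map_one] at h0
    rw [Matrix.eval_charpoly, map_one] at he1
    obtain ⟨v, hv0, hv⟩ := Matrix.exists_mulVec_eq_zero_iff.2 he1
    rw [Matrix.sub_mulVec, Matrix.one_mulVec, sub_eq_zero] at hv
    have h2 := e6_split (wmat Ω) hform h0 v hv0 hv.symm
    obtain ⟨w, hw, hw0⟩ := (Submodule.ne_bot_iff _).1 hne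
    rw [Module.End.mem_eigenspace_iff] at hw
    set T := Matrix.toLin' ((wmat Ω).map (Int.castRingHom (ZMod r)))
    have hT2 : T (T w) = w := by
      show Matrix.toLin' _ (Matrix.toLin' _ w) = w
      rw [Matrix.toLin'_apply, Matrix.toLin'_apply, Matrix.mulVec_mulVec, ← Matrix.map_mul, ← pow_two, show wmat Ω ^ 2 = 1 from h2,
        Matrix.map_one _ (map_zero _) (map_one _), Matrix.one_mulVec]
    rw [hw, map_smul, hw, smul_smul, ← pow_two] at hT2
    obtain ⟨i, hi⟩ := Function.ne_iff.1 hw0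
    have h4 := congrFun hT2 i
    rw [Pi.smul_apply, smul_eq_mul] at h4
    have h5 := hζ.dvd_of_pow_eq_one 2 (mul_right_cancel₀ hi (h4.trans (one_mul _).symm))
    exact absurd (Nat.le_of_dvd two_pos h5) (by norm_num)
  rcases totient_sum_two ht (by omega) with rfl | rfl | rfl | rfl | rfl | rfl | rfl
  · refine (hbad _ 2 ?_ ?_ rfl).elim
    · rw [hse]; simp [cyclotomic_one]
    · refine ⟨cyclotomic 12 ℤ * (X + 1) ^ 2, ?_⟩
      rw [hse]; simp [cyclotomic_one]; ring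
  · refine (hbad _ 1 ?_ ?_ rfl).elim
    · rw [hse]; simp [cyclotomic_one]
    · refine ⟨1, ?_⟩
      rw [hse]; simp [cyclotomic_one, cyclotomic_two]; left; ring
  · refine (hbad _ 1 ?_ ?_ rfl).elim
    · rw [hse]; simp [cyclotomic_one, cyclotomic_two]
    · refine ⟨1, ?_⟩
      rw [hse]; simp [cyclotomic_one, cyclotomic_two]; left; ring
  · rw [hse] at h3; simp [cyclotomic_two, cyclotomic_twelve] at h3
  · rw [hse]; simp
  · have h4 : cyclotomic 4 ℤ = X ^ 2 + 1 := by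
      rw [show (4 : ℕ) = 2 ^ (1 + 1) from rfl, cyclotomic_prime_pow_eq_geom_sum Nat.prime_two]
      simp [Finset.sum_range_succ, add_comm]
    rw [hse] at h3
    simp [cyclotomic_twelve, h4] at h3
  · rw [hse] at h3; simp [cyclotomic_twelve, cyclotomic_six] at h3

theorem torus_E6 {F : Type*} [Field F] [Fintype F] {q : ℕ} (hq : Fintype.card F = q) :
    ∃ H : Subgroup ↥(chevE6.group F), IsCyclic ↥H ∧
      Nat.card ↥H = (q ^ 4 - q ^ 2 + 1) * (q ^ 2 + q + 1) / Nat.gcd 3 (q - 1) ∧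
      Subgroup.centralizer (H : Set ↥(chevE6.group F)) = H := by
  have hq2 : 2 ≤ q := hq ▸ Fintype.one_lt_card
  have hle : q ^ 2 ≤ q ^ 4 := Nat.pow_le_pow_right (by omega) (by norm_num)
  have h24 : 4 * q ^ 2 ≤ q ^ 4 := by
    rw [show q ^ 4 = q ^ 2 * q ^ 2 by ring]
    exact Nat.mul_le_mul_right _ (Nat.pow_le_pow_left hq2 2)
  have hq4 : 4 ≤ q ^ 2 := Nat.pow_le_pow_left hq2 2
  have hev12 : ((cyclotomic 12 ℤ).eval (q : ℤ)).natAbs = q ^ 4 - q ^ 2 + 1 := by
    rw [cyclotomic_twelve]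
    simp only [eval_add, eval_sub, eval_pow, eval_X, eval_one]
    rw [show (q : ℤ) ^ 4 - (q : ℤ) ^ 2 + 1 = ((q ^ 4 - q ^ 2 + 1 : ℕ) : ℤ) by push_cast [hle]; ring,
      Int.natAbs_natCast]
  have hev3 : ((cyclotomic 3 ℤ).eval (q : ℤ)).natAbs = q ^ 2 + q + 1 := by
    rw [cyclotomic_three]
    simp only [eval_add, eval_pow, eval_X, eval_one]
    rw [show (q : ℤ) ^ 2 + q + 1 = ((q ^ 2 + q + 1 : ℕ) : ℤ) by push_cast; rfl, Int.natAbs_natCast]
  have hprimes : ∀ p : ℕ, p.Prime → p ∣ 12 → p = 2 ∨ p = 3 := fun p hp h => by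
    rcases hp.dvd_mul.1 (show p ∣ 4 * 3 from h) with h | h
    · exact Or.inl ((Nat.prime_dvd_prime_iff_eq hp Nat.prime_two).1 (hp.dvd_of_dvd_pow (show p ∣ 2 ^ 2 from h)))
    · exact Or.inr ((Nat.prime_dvd_prime_iff_eq hp Nat.prime_three).1 h)
  have hsmall12 : ∀ p : ℕ, p.Prime → p ∣ 12 → ¬ p ∣ ((cyclotomic 12 ℤ).eval (q : ℤ)).natAbs := by
    intro p hp h12
    rw [← Int.natCast_dvd, ← ZMod.intCast_zmod_eq_zero_iff_dvd, cyclotomic_twelve]
    simp only [eval_add, eval_sub, eval_pow, eval_X, eval_one]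
    push_cast
    rcases hprimes p hp h12 with rfl | rfl
    · exact (by decide : ∀ t : ZMod 2, t ^ 4 - t ^ 2 + 1 ≠ 0) _
    · exact (by decide : ∀ t : ZMod 3, t ^ 4 - t ^ 2 + 1 ≠ 0) _
  have hsmall : ∀ p : ℕ, p.Prime → p ∣ 12 →
      ¬ p ^ 2 ∣ ((cyclotomic 12 ℤ * cyclotomic 3 ℤ).eval (q : ℤ)).natAbs := by
    intro p hp h12
    rw [← Int.natCast_dvd, cyclotomic_twelve, cyclotomic_three, ← ZMod.intCast_zmod_eq_zero_iff_dvd]
    simp only [eval_mul, eval_add, eval_sub, eval_pow, eval_X, eval_one]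
    push_cast
    rcases hprimes p hp h12 with rfl | rfl
    · exact (by decide : ∀ t : ZMod 4, (t ^ 4 - t ^ 2 + 1) * (t ^ 2 + t + 1) ≠ 0) _
    · exact (by decide : ∀ t : ZMod 9, (t ^ 4 - t ^ 2 + 1) * (t ^ 2 + t + 1) ≠ 0) _
  obtain ⟨r, hr, hord, hd⟩ := exists_ord (by norm_num) (by rw [hev12]; omega)
    (fun p hp h12 h => hsmall12 p hp h12 ((dvd_pow_self p two_ne_zero).trans h))
  have hrW : ¬ r ∣ [2, 5, 6, 8, 9, 12].prod := by
    intro h
    obtain ⟨m, hm⟩ := hd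
    have hrp := hr.out
    have := hrp.two_le
    obtain ⟨e, he, hre⟩ := hrp.prime.dvd_prod_iff.1 h
    have h1 := Nat.le_of_dvd (by fin_cases he <;> norm_num) hre
    have h2 : e ≤ 12 := by fin_cases he <;> norm_num
    omega
  have hχ : cyclotomic 12 ℤ * cyclotomic 3 ℤ ∣ X ^ 12 - 1 := by
    refine ⟨(X ^ 2 + 1) * (X ^ 3 + 1) * (X - 1), ?_⟩
    rw [cyclotomic_twelve, cyclotomic_three]
    ring
  obtain ⟨H, h1, h2, h3⟩ := self_cent_rep factsE6 minRepE6 hq kerCertE6 (ds := [2, 5, 6, 8, 9, 12]) (by norm_num) rfl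
    lenSumE6 (d := 12) (by decide) only_E6 hχ hord (by norm_num) hrW hsmall
  exact ⟨H, h1, h2.trans (by rw [eval_mul, Int.natAbs_mul, hev12, hev3]), h3⟩

end Cfsg.Agent.Small.SelfCent
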