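import Cfsg.Agent.Lib.Small.SelfCent.Lift

/-!
Self-centralising cyclic tori of Chevalley groups whose diagonal kernel is cyclic: the fixed points
are counted on the presented group.
-/

set_option autoImplicit false
set_option linter.unusedSectionVars false

namespace Cfsg.Agent.Small.SelfCent

open Cfsg.Lie Cfsg.Agent.Lie Cfsg.Agent.Small.ChevInvol Cfsg.Agent.Small.SylowHom Matrix Polynomial
open scoped MatrixGroups

variable {D : ChevalleyDatum} (hF : Facts D)

theorem psi_injective (hM : MinRep D) {L : Type*} [Field L] (hH : StHyp D)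
    {ψ : (Fin D.rank → Lˣ) →* D.SteinbergGroup L}
    (hψ : ∀ j u, ψ (Pi.mulSingle j u) = (hF.stT hH L).h (D.simple j.val) (u : L)) : Function.Injective ψ := by
  classical
  obtain ⟨N, μ, ρ, hμ, hρ⟩ := hM.exists_rep hF L
  refine (injective_iff_map_eq_one _).2 fun c hc => hμ c fun a => ?_
  obtain ⟨g, hg⟩ : ∃ g : (Fin D.rank → Lˣ) →* (Matrix (Fin N) (Fin N) L)ˣ,
      ∀ c, (g c : Matrix (Fin N) (Fin N) L) = Matrix.diagonal fun a => ((∏ i, c i ^ μ i a : Lˣ) : L) := by
    refine ⟨(Units.map (Matrix.diagonalRingHom (Fin N) L).toMonoidHom).comp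
      (MulEquiv.piUnits.symm.toMonoidHom.comp (MonoidHom.mk' (fun c a => ∏ i, c i ^ μ i a) fun c c' => ?_)),
      fun c => rfl⟩
    funext a
    simp [_root_.mul_zpow, Finset.prod_mul_distrib]
  have hcomp : ρ.comp ψ = g := by
    refine MonoidHom.pi_ext fun j u => Units.ext ?_
    rw [MonoidHom.comp_apply, hψ, hg]
    refine (hρ j u).trans ?_
    congr 1
    funext a
    rw [Finset.prod_eq_single j]
    · rw [Pi.mulSingle_eq_same]
    · intro b _ hb; rw [Pi.mulSingle_eq_of_ne hb, _root_.one_zpow]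
    · simp
  have h1 := DFunLike.congr_fun hcomp c
  rw [MonoidHom.comp_apply, hc, map_one] at h1
  have h2 := congrArg (fun v : (Matrix (Fin N) (Fin N) L)ˣ => (v : Matrix (Fin N) (Fin N) L) a a) h1
  simp only [Units.val_one, Matrix.one_apply_eq, hg, Matrix.diagonal_apply_eq] at h2
  exact Units.ext h2.symm

include hF in
theorem act_ker {L : Type*} [Field L] {c : Fin D.rank → Lˣ} (hc : torus D L c = 1) (ω : List (Fin D.rank)) :
    act (wmat ω) c = c := by
  induction ω with
  | nil => simp [wmat, act_one]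
  | cons i ω ih =>
    rw [wmat_cons, act_mul, ih, act_smat, reflT, (coe_torus_eq_one c).1 hc _ (hF.simple_lt i i.isLt), inv_one,
      Pi.mulSingle_one, mul_one]

include hF in
theorem card_torus_ker {F : Type*} [Field F] [Fintype F] {k : ℕ} {dd : Fin k → ℕ} (Kc : KerCert (cartanSys D) dd) :
    Nat.card (torus D F).ker = ∏ a, Nat.gcd (dd a) (Fintype.card F - 1) := by
  have h1 := Subgroup.card_eq_card_quotient_mul_card_subgroup (torus D F).ker
  have h2 : Nat.card (D.diagonalSubgroup F) = Nat.card ((Fin D.rank → Fˣ) ⧸ (torus D F).ker) := by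
    rw [hF.diagonalSubgroup_eq F]
    exact Nat.card_congr (QuotientGroup.quotientKerEquivRange _).toEquiv.symm
  have h3 := hF.card_diagonal (F := F) Kc
  rw [Nat.card_fun, Nat.card_units, Nat.card_fin, ← h2, ← h3, mul_comm] at h1
  rw [← Nat.eq_of_mul_eq_mul_left Nat.card_pos h1, Nat.card_eq_fintype_card]

include hF in
theorem proj_mem (hH : StHyp D) {K : Type*} [Field K] (z : D.SteinbergGroup K) : hF.proj K z ∈ D.group K := by
  rw [← hF.tsys_G, ← Subgroup.mem_comap (f := hF.proj K)]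
  refine (le_of_eq_of_le (hF.stT_G hH (F := K)).symm ((Subgroup.closure_le _).2 ?_)) (Subgroup.mem_top z)
  rintro _ ⟨r, t, rfl⟩
  exact Subgroup.mem_comap.2 (Subgroup.subset_closure ⟨r, t, (hF.proj_x r t).symm⟩)

variable {F L : Type*} [Field F] [Field L] (f : F →+* L) (σ : L ≃+* L)

include hF in
/-- Fixed elements of the presented group lie over the fixed field. -/
theorem fixed_lift (hH : StHyp D) {ψ : (Fin D.rank → Lˣ) →* D.SteinbergGroup L}
    (hψ : ∀ j u, ψ (Pi.mulSingle j u) = (hF.stT hH L).h (D.simple j.val) (u : L)) (hψi : Function.Injective ψ)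
    (hψp : ∀ c, hF.proj L (ψ c) = torus D L c) (hψr : hF.H0 (F := L) hH ≤ ψ.range)
    (hfix : ∀ t, σ t = t → ∃ t₀, f t₀ = t) (hσf : ∀ a, σ (f a) = f a)
    {z : D.SteinbergGroup L} (hz : stMap hF σ.toRingHom z = z) :
    hF.proj L z ∈ (D.group F).map (gmap f) := by
  obtain ⟨ψ₀, hψ₀, hψ₀p, -⟩ := hF.exists_st_torus hH (F := F)
  have hσσ : ∀ y, stMap hF σ.toRingHom (stMap hF f y) = stMap hF f y := by
    have h : (stMap hF σ.toRingHom).comp (stMap hF f) = stMap hF f := st_hom_ext fun r _ t => by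
      rw [MonoidHom.comp_apply, stMap_x, stMap_x]
      exact congrArg (D.stGen L r) (hσf t)
    exact fun y => DFunLike.congr_fun h y
  have hg : gmap σ.toRingHom (hF.proj L z) = hF.proj L z := by rw [← proj_stMap hF, hz]
  have hG : ∀ {L' : List ℕ} {y : GL D.Idx F}, y ∈ (hF.tsys F).US L' → y ∈ D.group F := fun hy =>
    CommSys.US_le _ (fun r _ t => hF.xg_mem_group r t) hy
  obtain ⟨b, hb, w, u, hu, he⟩ := hF.mem_bnu (proj_mem hF hH z)
  rw [he, map_mul, map_mul, hF.gmap_nW] at hg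
  obtain ⟨-, hbe, hue⟩ := hF.bruhat_unique (hF.gmap_B_mem _ hb) hb (hF.gmap_US_le _ _ ⟨u, hu, rfl⟩) hu hg
  obtain ⟨v, hv, a, ha, rfl⟩ := (hF.tsys L).mem_B.1 hb
  rw [map_mul] at hbe
  obtain ⟨hve, -⟩ := B_eq hF (hF.gmap_US_le _ _ ⟨v, hv, rfl⟩) hv (hF.gmap_H_mem _ ha) ha hbe
  obtain ⟨v0, hv0, rfl⟩ := Subgroup.mem_map.1 (hF.fixed_US hfix hF.closedList_posL hv hve)
  obtain ⟨u0, hu0, rfl⟩ := Subgroup.mem_map.1 (hF.fixed_US hfix (TorusSys.closed_invList w) hu hue)
  obtain ⟨vs, hvs⟩ := exists_preimage hF (hG hv0)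
  obtain ⟨us, hus⟩ := exists_preimage hF (mul_mem (hF.nW_mem_group (F := F) w) (hG hu0))
  obtain ⟨ca, rfl⟩ := exists_torus hF ha
  set z' := (stMap hF f vs)⁻¹ * z * (stMap hF f us)⁻¹
  have hz' : stMap hF σ.toRingHom z' = z' := by
    rw [map_mul, map_mul, map_inv, map_inv, hσσ, hσσ, hz]
  have hp : hF.proj L z' = torus D L ca := by
    rw [map_mul, map_mul, map_inv, map_inv, proj_stMap, proj_stMap, he, hvs, hus, map_mul, hF.gmap_nW]
    group
  obtain ⟨e, hek⟩ : z' * (ψ ca)⁻¹ ∈ ψ.range := hψr (hF.H_le_H0 hH (hF.ker_le_H hH (by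
    rw [MonoidHom.mem_ker, map_mul, map_inv, hp, hψp, mul_inv_cancel])))
  have hz'e : z' = ψ (e * ca) := by rw [map_mul, hek, inv_mul_cancel_right]
  rw [hz'e, stMap_psi hF hH hψ hψ] at hz'
  choose c₀ hc₀ using fun m => hfix ((e * ca) m : L) (congrArg Units.val (congrFun (hψi hz') m))
  have hne : ∀ m, c₀ m ≠ 0 := fun m h => ((e * ca) m).ne_zero (by rw [← hc₀ m, h, map_zero])
  have hlift : stMap hF f (ψ₀ fun m => Units.mk0 _ (hne m)) = z' := by
    rw [hz'e, stMap_psi hF hH hψ hψ₀]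
    exact congrArg ψ (funext fun m => Units.ext (hc₀ m))
  refine ⟨hF.proj F (vs * ψ₀ (fun m => Units.mk0 _ (hne m)) * us), ?_, ?_⟩
  · exact proj_mem hF hH _
  · rw [← proj_stMap, map_mul (stMap hF f), map_mul (stMap hF f), hlift]
    congr 1
    show stMap hF f vs * ((stMap hF f vs)⁻¹ * z * (stMap hF f us)⁻¹) * stMap hF f us = z
    group

include hF in
theorem self_cent_rep (hM : MinRep D) [Fintype F] {q : ℕ} (hq : Fintype.card F = q) {e₀ : ℕ}
    (Kc : KerCert (cartanSys D) (k := 1) ![e₀]) {ds : List ℕ} (he₀ : e₀ ∣ ds.prod) (hds : ds.length = D.rank)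
    (hlen : ∀ q, hF.lenSum (List.range D.rank) q = (ds.map fun e => ∑ j ∈ Finset.range e, q ^ j).prod)
    {d : ℕ} (hd : d ∈ ds) {χ : ℤ[X]} (hOnly : Only D ds d χ) (hχ : χ ∣ X ^ d - 1)
    {r : ℕ} [Fact r.Prime] (hord : orderOf (q : ZMod r) = d) (hd0 : 0 < d) (hrW : ¬ r ∣ ds.prod)
    (hsmall : ∀ p : ℕ, p.Prime → p ∣ d → ¬ p ^ 2 ∣ (χ.eval (q : ℤ)).natAbs) :
    ∃ H : Subgroup ↥(D.group F), IsCyclic ↥H ∧ Nat.card ↥H = (χ.eval (q : ℤ)).natAbs / Nat.gcd e₀ (q - 1) ∧
      Subgroup.centralizer (H : Set ↥(D.group F)) = H := by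
  classical
  have hq2 : 2 ≤ q := hq ▸ Fintype.one_lt_card
  have hH := hM.full.cert.hyp.1
  have hdd : ∀ a : Fin 1, (![e₀] : Fin 1 → ℕ) a ∣ ds.prod := fun a => by fin_cases a; simpa using he₀
  have hrG : r ∣ Nat.card ↥(D.group F) := by
    have hg := hF.card_group (F := F) hq Kc ds hds hlen
    have h1 : r ∣ q ^ (D.nroots / 2) * (ds.map fun e => q ^ e - 1).prod :=
      ((SylowHom.dvd_pred_pow (r := r) (q := q) (by omega) d).2 (by rw [hord])).trans
        ((List.dvd_prod (List.mem_map.2 ⟨d, hd, rfl⟩)).mul_left _)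
    rw [← hg] at h1
    exact ((Fact.out : r.Prime).dvd_mul.1 h1).resolve_left (gcd_prime Kc hdd hrW q)
  -- the extension
  obtain ⟨p, hp⟩ := CharP.exists F
  have := hp
  have : Fact p.Prime := ⟨(CharP.char_is_prime_or_zero F p).resolve_right (CharP.char_ne_zero_of_finite F p)⟩
  have : NeZero d := ⟨hd0.ne'⟩
  let K := FiniteField.Extension F p d
  let _ := Fintype.ofFinite K
  have hL : Fintype.card K = q ^ d := by
    rw [← Nat.card_eq_fintype_card, FiniteField.natCard_extension, Nat.card_eq_fintype_card, hq]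
  obtain ⟨n, -, hn⟩ := FiniteField.card F p
  have : CharP K p := charP_of_injective_ringHom (algebraMap F K).injective p
  let τ : K ≃+* K := iterateFrobeniusEquiv K p n
  have hτ : ∀ t : K, τ t = t ^ q := fun t => by rw [show τ t = t ^ p ^ (n : ℕ) from rfl, ← hn, hq]
  set j := algebraMap F K
  obtain ⟨x, ω, c, hx, hc, hχM, hiff, hcentT, hg⟩ := frame hF Kc hdd hlen hrW hq hds hOnly hord hrG hL τ hτ j
  set M := wmat ω with hMdef
  obtain ⟨ψ, hψ, hψp, hψr⟩ := hF.exists_st_torus hH (F := K)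
  have hψi := psi_injective hF hM hH hψ
  have hτj : ∀ a, τ (j a) = j a := fun a => by rw [hτ, ← map_pow, ← hq, FiniteField.pow_card]
  have hττ : ∀ y, stMap hF τ.toRingHom (stMap hF j y) = stMap hF j y := by
    have h : (stMap hF τ.toRingHom).comp (stMap hF j) = stMap hF j := st_hom_ext fun r _ t => by
      rw [MonoidHom.comp_apply, stMap_x, stMap_x]
      exact congrArg (D.stGen K r) (hτj t)
    exact fun y => DFunLike.congr_fun h y
  have hfix : ∀ t, τ t = t → ∃ t₀, j t₀ = t := fun t ht => by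
    rw [hτ] at ht
    have hdeg : (X ^ q - X : K[X]).natDegree = q := FiniteField.X_pow_card_sub_X_natDegree_eq K hq2
    have hne : (X ^ q - X : K[X]) ≠ 0 := FiniteField.X_pow_card_sub_X_ne_zero K hq2
    let S := insert t (Finset.univ.image j)
    by_contra hno
    have h1 : S.card = q + 1 := by
      rw [Finset.card_insert_of_notMem (fun h => hno (by simpa using h)), Finset.card_image_of_injective _ j.injective,
        Finset.card_univ, hq]
    have h2 : S ⊆ (X ^ q - X : K[X]).roots.toFinset := fun s hs => by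
      rw [Multiset.mem_toFinset, mem_roots hne, IsRoot.def, eval_sub, eval_pow, eval_X, sub_eq_zero]
      rcases Finset.mem_insert.1 hs with rfl | hs
      · exact ht
      · obtain ⟨a, -, rfl⟩ := Finset.mem_image.1 hs
        rw [← map_pow, ← hq, FiniteField.pow_card]
    have h3 := (Finset.card_le_card h2).trans ((Multiset.toFinset_card_le _).trans (card_roots' _))
    omega
  have hker : ∀ y : D.SteinbergGroup K, ∀ e, hF.proj K y = torus D K e → ∃ e', y = ψ e' ∧ torus D K e' = torus D K e := by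
    intro y e hy
    obtain ⟨e', he'⟩ : y ∈ ψ.range := by
      have h1 : y * (ψ e)⁻¹ ∈ ψ.range := hψr (hF.H_le_H0 hH (hF.ker_le_H hH (by
        rw [MonoidHom.mem_ker, map_mul, map_inv, hy, hψp, mul_inv_cancel])))
      have h2 := mul_mem h1 (MonoidHom.mem_range.2 ⟨e, rfl⟩)
      rwa [inv_mul_cancel_right] at h2
    exact ⟨e', he'.symm, by rw [← hψp, he', hy]⟩
  obtain ⟨cs, hcs⟩ := exists_preimage hF hc
  set gs := stMap hF τ.toRingHom cs * cs⁻¹ with hgs
  have hgsp : hF.proj K gs = gmap τ.toRingHom c * c⁻¹ := by rw [map_mul, map_inv, proj_stMap, hcs]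
  have hconj : ∀ e, gs * ψ e * gs⁻¹ = ψ (act M e) := by
    set ns := (hF.stT hH K).nw ω with hns
    have hz : hF.proj K (ns⁻¹ * gs) ∈ (hF.tsys K).H := hcentT _ (proj_mem hF hH _) fun e => by
      rw [map_mul, map_inv, hns, hF.proj_nw hH, hgsp]
      have h1 := hg e
      rw [← nw_conj hF] at h1
      calc ((hF.tsys K).nw ω)⁻¹ * (gmap τ.toRingHom c * c⁻¹) * torus D K e
          = ((hF.tsys K).nw ω)⁻¹ * (gmap τ.toRingHom c * c⁻¹ * torus D K e * (gmap τ.toRingHom c * c⁻¹)⁻¹) *
              (gmap τ.toRingHom c * c⁻¹) := by group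
        _ = _ := by rw [h1]; group
    obtain ⟨t, ht⟩ := exists_torus hF hz
    obtain ⟨t', ht', -⟩ := hker _ t ht.symm
    intro e
    rw [hMdef, ← nw_psi hF hH hψ, show gs = ns * ψ t' by rw [← ht', mul_inv_cancel_left]]
    calc ns * ψ t' * ψ e * (ns * ψ t')⁻¹ = ns * (ψ t' * ψ e * (ψ t')⁻¹) * ns⁻¹ := by group
      _ = _ := by rw [← map_mul, mul_comm, map_mul, mul_inv_cancel_right]
  have hτψ : ∀ e, stMap hF τ.toRingHom (ψ e) = ψ (e ^ q) := fun e => by
    rw [stMap_psi hF hH hψ hψ]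
    exact congrArg ψ (funext fun m => Units.ext (by rw [Pi.pow_apply, Units.val_pow_eq_pow_val]; exact hτ _))
  have hpre : ∀ e : kerT (L := K) M q, c⁻¹ * torus D K e.1 * c ∈ (D.group F).map (gmap j) := fun e => by
    have h1 : stMap hF τ.toRingHom (cs⁻¹ * ψ e.1 * cs) = cs⁻¹ * ψ e.1 * cs := by
      rw [map_mul, map_mul, map_inv, hτψ, ← mem_kerT.1 e.2, ← hconj, hgs]
      group
    have h2 := fixed_lift hF j τ hH hψ hψi hψp hψr hfix hτj h1
    rwa [map_mul, map_mul, map_inv, hψp, hcs] at h2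
  choose φ hφG hφ using fun e => Subgroup.mem_map.1 (hpre e)
  let Φ : kerT (L := K) M q →* ↥(D.group F) := MonoidHom.mk' (fun e => ⟨φ e, hφG e⟩) fun a b =>
    Subtype.ext (gmap_injective j (by
      show gmap j (φ (a * b)) = gmap j (φ a * φ b)
      rw [map_mul, hφ, hφ, hφ, Subgroup.coe_mul, map_mul]
      group))
  have hrange : Φ.range = Subgroup.centralizer ({⟨x, hx⟩} : Set ↥(D.group F)) := by
    ext ⟨h, hh⟩
    rw [Subgroup.mem_centralizer_singleton_iff, MonoidHom.mem_range]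
    constructor
    · rintro ⟨e, he⟩
      obtain rfl : φ e = h := congrArg Subtype.val he
      refine Subtype.ext ((hiff _ (hφG e)).2 ?_)
      rw [hφ]
      have : c * (c⁻¹ * torus D K e.1 * c) * c⁻¹ = torus D K e.1 := by group
      rw [this]
      exact torus_mem_H hF _
    · intro hcomm
      obtain ⟨e, he⟩ := exists_torus hF ((hiff h hh).1 (congrArg Subtype.val hcomm))
      obtain ⟨hs, hhs⟩ := exists_preimage hF hh
      obtain ⟨e', he', hee⟩ := hker (cs * stMap hF j hs * cs⁻¹) e (by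
        rw [map_mul, map_mul, map_inv, proj_stMap, hcs, hhs, he])
      have hek : e' ∈ kerT (L := K) M q := by
        rw [mem_kerT]
        refine hψi ?_
        rw [← hconj, ← hτψ, ← he', hgs, map_mul, map_mul, map_inv, hττ]
        group
      refine ⟨⟨e', hek⟩, Subtype.ext (gmap_injective j ?_)⟩
      show gmap j (φ ⟨e', hek⟩) = gmap j h
      rw [hφ]
      show c⁻¹ * torus D K e' * c = gmap j h
      rw [hee, he]
      group
  have hMd := pow_eq_one_of_dvd hχM hχ
  have hcard : Nat.card (kerT (L := K) M q) = (χ.eval (q : ℤ)).natAbs := by rw [card_kerT hL hMd, hχM]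
  have hcyc : IsCyclic (kerT (L := K) M q) := isCyclic_of_prime_torsion fun p' hp' => by
    have : Fact p'.Prime := ⟨hp'⟩
    by_cases hpd : p' ∣ d
    · exact torsion_le_of_sq (hcard ▸ hsmall p' hp' hpd)
    · exact card_torsion_le (finrank_eigen_le_one hχM hχ hpd _)
  -- the kernel is the diagonal kernel over the small field
  have hkerΦ : Nat.card Φ.ker = Nat.gcd e₀ (q - 1) := by
    have h1 := card_torus_ker hF (F := F) Kc
    rw [Fin.prod_univ_one, hq] at h1
    rw [show Nat.gcd e₀ (q - 1) = Nat.card (torus D F).ker from h1.symm]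
    have hone : ∀ c₀ : Fin D.rank → Fˣ, torus D F c₀ = 1 → torus D K (fun m => Units.map j.toMonoidHom (c₀ m)) = 1 :=
      fun c₀ h => by rw [← gmap_torus, h, map_one]
    let ι : (torus D F).ker → Φ.ker := fun c₀ => ⟨⟨fun m => Units.map j.toMonoidHom (c₀.1 m), by
      rw [mem_kerT, hMdef, act_ker hF (hone _ c₀.2) ω]
      funext m
      refine Units.ext ?_
      rw [Pi.pow_apply, Units.val_pow_eq_pow_val]
      show j (c₀.1 m : F) = j (c₀.1 m : F) ^ q
      rw [← map_pow, ← hq, FiniteField.pow_card]⟩, by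
      refine MonoidHom.mem_ker.2 (Subtype.ext (gmap_injective j ?_))
      show gmap j (φ _) = gmap j 1
      rw [hφ, map_one]
      show c⁻¹ * torus D K (fun m => Units.map j.toMonoidHom (c₀.1 m)) * c = 1
      rw [hone _ c₀.2]
      group⟩
    refine (Nat.card_eq_of_bijective ι ⟨fun a b h => ?_, fun e => ?_⟩).symm
    · refine Subtype.ext (funext fun m => Units.map_injective (f := j.toMonoidHom) j.injective ?_)
      exact congrFun (congrArg (fun v : Φ.ker => (v.1 : Fin D.rank → Kˣ)) h) m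
    · have h2 : gmap j (φ e.1) = 1 := by
        rw [show φ e.1 = ((Φ e.1 : ↥(D.group F)) : GL D.Idx F) from rfl, MonoidHom.mem_ker.1 e.2,
          OneMemClass.coe_one, map_one]
      rw [hφ] at h2
      have h3 : torus D K (e.1 : Fin D.rank → Kˣ) = 1 := by
        calc torus D K (e.1 : Fin D.rank → Kˣ) = c * (c⁻¹ * torus D K (e.1 : Fin D.rank → Kˣ) * c) * c⁻¹ := by group
          _ = 1 := by rw [h2]; group
      have h4 : act M (e.1 : Fin D.rank → Kˣ) = (e.1 : Fin D.rank → Kˣ) ^ q := e.1.2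
      rw [show act M (e.1 : Fin D.rank → Kˣ) = (e.1 : Fin D.rank → Kˣ) from act_ker hF h3 ω] at h4
      choose c₀ hc₀ using fun m => hfix (((e.1 : Fin D.rank → Kˣ) m : Kˣ) : K) (by
        rw [hτ, ← Units.val_pow_eq_pow_val]; exact congrArg Units.val (congrFun h4 m).symm)
      have hne : ∀ m, c₀ m ≠ 0 := fun m h => ((e.1 : Fin D.rank → Kˣ) m).ne_zero (by rw [← hc₀ m, h, map_zero])
      have e1 : (fun m => Units.map j.toMonoidHom (Units.mk0 _ (hne m))) = (e.1 : Fin D.rank → Kˣ) :=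
        funext fun m => Units.ext (hc₀ m)
      refine ⟨⟨fun m => Units.mk0 _ (hne m), MonoidHom.mem_ker.2 (gmap_injective j ?_)⟩, Subtype.ext (Subtype.ext e1)⟩
      rw [gmap_torus, e1, h3, map_one]
  refine ⟨Φ.range, isCyclic_of_surjective _ Φ.rangeRestrict_surjective, ?_, le_antisymm ?_ ?_⟩
  · have h := Subgroup.card_eq_card_quotient_mul_card_subgroup Φ.ker
    rw [Nat.card_congr (QuotientGroup.quotientKerEquivRange Φ).toEquiv, hcard, hkerΦ] at h
    rw [h, Nat.mul_div_cancel _ (hkerΦ ▸ Nat.card_pos)]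
  · conv_rhs => rw [hrange]
    refine Subgroup.centralizer_le (Set.singleton_subset_iff.2 ?_)
    rw [SetLike.mem_coe, hrange, Subgroup.mem_centralizer_singleton_iff]
  · rintro _ ⟨a, rfl⟩
    rw [Subgroup.mem_centralizer_iff]
    rintro _ ⟨b, rfl⟩
    rw [← map_mul, ← map_mul, mul_comm]

end Cfsg.Agent.Small.SelfCent
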