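import Cfsg.Agent.Lib.Small.SylowHom.Coords
import Cfsg.Agent.Lib.Small.SylowHom.Eigen

/-!
The torus coordinates fixed by a twisted Frobenius: their number is a value of the characteristic
polynomial, and they form a cyclic group when the eigenspaces modulo the primes are lines.
-/

set_option autoImplicit false
set_option linter.unusedSectionVars false

namespace Cfsg.Agent.Small.SelfCent

open Cfsg.Lie Cfsg.Agent.Lie Cfsg.Agent.Small.SylowHom Matrix Polynomial

variable {D : ChevalleyDatum} {L : Type*} [Field L]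

theorem act_mul_fun (A : Matrix (Fin D.rank) (Fin D.rank) ℤ) (a b : Fin D.rank → Lˣ) :
    act A (a * b) = act A a * act A b := by
  funext m
  simp [act, _root_.mul_zpow, Finset.prod_mul_distrib]

/-- The coordinates on which M is the q-th power. -/
def kerT (M : Matrix (Fin D.rank) (Fin D.rank) ℤ) (q : ℕ) : Subgroup (Fin D.rank → Lˣ) where
  carrier := {e | act M e = e ^ q}
  one_mem' := by funext m; simp [act]
  mul_mem' {a b} ha hb := by
    show act M (a * b) = (a * b) ^ q
    rw [act_mul_fun, ha, hb, mul_pow]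
  inv_mem' {a} ha := by
    show act M a⁻¹ = a⁻¹ ^ q
    have h : act M a * act M a⁻¹ = 1 := by
      rw [← act_mul_fun, mul_inv_cancel]; funext m; simp [act]
    rw [inv_pow, ← show act M a = a ^ q from ha]
    exact eq_inv_of_mul_eq_one_right h

theorem mem_kerT {M : Matrix (Fin D.rank) (Fin D.rank) ℤ} {q : ℕ} {e : Fin D.rank → Lˣ} :
    e ∈ kerT M q ↔ act M e = e ^ q := Iff.rfl

theorem act_zpow (A : Matrix (Fin D.rank) (Fin D.rank) ℤ) (γ : Lˣ) (z : Fin D.rank → ℤ) :
    act A (fun m => γ ^ z m) = fun m => γ ^ (A *ᵥ z) m := by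
  funext m
  simp only [act, Matrix.mulVec, dotProduct, ← _root_.zpow_mul, mul_comm (z _)]
  induction (Finset.univ : Finset (Fin D.rank)) using Finset.induction_on with
  | empty => simp
  | insert a S ha ih => rw [Finset.prod_insert ha, Finset.sum_insert ha, ih, _root_.zpow_add]

theorem mem_kerT_zpow (M : Matrix (Fin D.rank) (Fin D.rank) ℤ) (q : ℕ) (γ : Lˣ) (z : Fin D.rank → ℤ) :
    (fun m => γ ^ z m) ∈ kerT M q ↔ ∀ m, (orderOf γ : ℤ) ∣ (q : ℤ) * z m - (M *ᵥ z) m := by
  rw [mem_kerT, act_zpow, funext_iff]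
  refine forall_congr' fun m => ?_
  rw [Pi.pow_apply, ← zpow_natCast, ← _root_.zpow_mul, zpow_eq_zpow_iff_modEq, Int.modEq_iff_dvd, mul_comm (z m)]

theorem exists_exponents {p : ℕ} [Fact p.Prime] {ξ : Lˣ} (hξ : orderOf ξ = p) {c : Fin D.rank → Lˣ} (hc : c ^ p = 1) :
    ∃ z : Fin D.rank → ℤ, c = fun m => ξ ^ z m := by
  have hp : IsPrimitiveRoot ((ξ : Lˣ) : L) p := IsPrimitiveRoot.coe_units_iff.2 (hξ ▸ IsPrimitiveRoot.orderOf ξ)
  have hz : ∀ m, ∃ i : ℕ, ξ ^ i = c m := fun m => by
    obtain ⟨i, -, hie⟩ := hp.eq_pow_of_pow_eq_one (ξ := ((c m : Lˣ) : L))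
      (by rw [← Units.val_pow_eq_pow_val, show c m ^ p = 1 from congrFun hc m, Units.val_one])
    exact ⟨i, Units.ext (by rw [Units.val_pow_eq_pow_val, hie])⟩
  choose z hz using hz
  exact ⟨fun m => (z m : ℤ), funext fun m => by rw [zpow_natCast, hz]⟩

/-- Exponents modulo p of fixed coordinates are eigenvectors. -/
theorem exponents_eigen {p : ℕ} [Fact p.Prime] {ξ : Lˣ} (hξ : orderOf ξ = p)
    {M : Matrix (Fin D.rank) (Fin D.rank) ℤ} {q : ℕ} {z : Fin D.rank → ℤ}
    (h : (fun m => ξ ^ z m) ∈ kerT M q) :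
    (fun m => (z m : ZMod p)) ∈ Module.End.eigenspace (Matrix.toLin' (M.map (Int.castRingHom (ZMod p)))) (q : ZMod p) := by
  rw [mem_kerT_zpow, hξ] at h
  refine Module.End.mem_eigenspace_iff.2 (funext fun m => ?_)
  have h1 := (ZMod.intCast_zmod_eq_zero_iff_dvd _ p).2 (h m)
  simp only [Matrix.mulVec, dotProduct] at h1
  push_cast at h1
  simp only [Matrix.toLin'_apply, Matrix.mulVec, dotProduct, Matrix.map_apply, eq_intCast, Pi.smul_apply, smul_eq_mul]
  linear_combination -h1

variable [Fintype L] {M : Matrix (Fin D.rank) (Fin D.rank) ℤ} {q d : ℕ}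

theorem card_kerT (hL : Fintype.card L = q ^ d) (hM : M ^ d = 1) :
    Nat.card (kerT (L := L) M q) = (M.charpoly.eval (q : ℤ)).natAbs := by
  classical
  obtain ⟨γ, hγ⟩ := IsCyclic.exists_generator (α := Lˣ)
  have hQ : (orderOf γ : ℤ) = (q : ℤ) ^ d - 1 := by
    have h1 : 1 ≤ Fintype.card L := Fintype.card_pos
    rw [orderOf_eq_card_of_forall_mem_zpowers hγ, Nat.card_units, Nat.card_eq_fintype_card, hL,
      Nat.cast_sub (hL ▸ h1), Nat.cast_pow, Nat.cast_one]
  set A : Matrix (Fin D.rank) (Fin D.rank) ℤ := scalar (Fin D.rank) (q : ℤ) - M with hA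
  set S : Matrix (Fin D.rank) (Fin D.rank) ℤ := scalar (Fin D.rank) (q : ℤ) with hS
  set B := ∑ i ∈ Finset.range d, S ^ i * M ^ (d - 1 - i) with hB
  have hcomm : Commute S M := scalar_commute _ (fun r => Commute.all _ r) M
  set N : ℤ := (q : ℤ) ^ d - 1 with hN
  have hSd : S ^ d - M ^ d = scalar (Fin D.rank) N := by
    rw [hM, hS, ← map_pow, hN, map_sub, map_one]
  have hAB : A * B = scalar (Fin D.rank) N := by rw [hA, hB, hcomm.mul_geom_sum₂, hSd]
  have hBA : B * A = scalar (Fin D.rank) N := by rw [hA, hB, hcomm.geom_sum₂_mul, hSd]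
  have hN0 : N ≠ 0 := hQ ▸ (by exact_mod_cast (orderOf_pos γ).ne')
  have hscal : ∀ z : Fin D.rank → ℤ, scalar (Fin D.rank) N *ᵥ z = N • z := fun z => funext fun m => by
    simp [scalar_apply, mulVec_diagonal]
  have hAdet : A.det = M.charpoly.eval (q : ℤ) := by rw [hA, eval_charpoly]
  have hAinj : Function.Injective (fun z => A *ᵥ z) := fun a b h => by
    have h1 := congrArg (fun z => B *ᵥ z) h
    simp only [mulVec_mulVec, hBA, hscal] at h1
    exact smul_right_injective _ hN0 h1
  have hBmem : ∀ v : Fin D.rank → ℤ, (fun m => γ ^ (B *ᵥ v) m) ∈ kerT M q := fun v => by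
    rw [mem_kerT_zpow, hQ]
    intro m
    have h := congrFun (congrArg (fun X => X *ᵥ v) hAB) m
    rw [← mulVec_mulVec, hA, sub_mulVec, Pi.sub_apply] at h
    simp only [hS, scalar_apply, mulVec_diagonal] at h
    rw [h]
    exact Dvd.intro _ rfl
  let Φ : (Fin D.rank → ℤ) →+ Additive (kerT (L := L) M q) :=
    AddMonoidHom.mk' (fun v => Additive.ofMul ⟨_, hBmem v⟩) fun a b => by
      refine Additive.toMul.injective (Subtype.ext (funext fun m => ?_))
      simp [mulVec_add, _root_.zpow_add]
  have hker : Φ.ker = (LinearMap.range A.mulVecLin).toAddSubgroup := by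
    ext v
    rw [AddMonoidHom.mem_ker, Submodule.mem_toAddSubgroup, LinearMap.mem_range]
    constructor
    · intro h
      have h1 : ∀ m, N ∣ (B *ᵥ v) m := fun m => by
        have h2 := congrFun (congrArg (fun x : Additive (kerT (L := L) M q) =>
          ((Additive.toMul x : kerT (L := L) M q) : Fin D.rank → Lˣ)) h) m
        change γ ^ (B *ᵥ v) m = 1 at h2
        rw [← hQ]
        exact orderOf_dvd_iff_zpow_eq_one.2 h2
      choose w hw using h1
      refine ⟨w, smul_right_injective _ hN0 ?_⟩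
      show N • (A *ᵥ w) = N • v
      rw [← mulVec_smul, show N • w = B *ᵥ v from funext fun m => (hw m).symm, mulVec_mulVec, hAB, hscal]
    · rintro ⟨w, rfl⟩
      refine Additive.toMul.injective (Subtype.ext (funext fun m => ?_))
      show γ ^ (B *ᵥ A.mulVecLin w) m = 1
      rw [mulVecLin_apply, mulVec_mulVec, hBA, hscal]
      exact orderOf_dvd_iff_zpow_eq_one.1 (hQ ▸ Dvd.intro _ rfl)
  have hsurj : Function.Surjective Φ := by
    intro x
    obtain ⟨⟨e, he⟩, rfl⟩ := Additive.ofMul.surjective x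
    choose z hz using fun m => Subgroup.mem_zpowers_iff.1 (hγ (e m))
    obtain rfl : (fun m => γ ^ z m) = e := funext hz
    have h1 := (mem_kerT_zpow M q γ z).1 he
    rw [hQ] at h1
    choose v hv using h1
    refine ⟨v, Additive.toMul.injective (Subtype.ext (funext fun m => ?_))⟩
    show γ ^ (B *ᵥ v) m = γ ^ z m
    rw [hAinj (a₁ := B *ᵥ v) (a₂ := z) (by
      show A *ᵥ (B *ᵥ v) = A *ᵥ z
      rw [mulVec_mulVec, hAB, hscal]
      funext i
      rw [hA, sub_mulVec, Pi.sub_apply, hS, scalar_apply, mulVec_diagonal, hv i, Pi.smul_apply, smul_eq_mul])]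
  have h := AddSubgroup.index_ker Φ
  rw [AddMonoidHom.range_eq_top.2 hsurj, AddSubgroup.card_top, hker] at h
  rw [Nat.card_congr (Additive.toMul (α := kerT (L := L) M q))] at h
  rw [← h, ← hAdet]
  let e := LinearEquiv.ofInjective A.mulVecLin hAinj
  have h2 := Submodule.natAbs_det_equiv _ e
  rw [show (LinearMap.range A.mulVecLin).subtype ∘ₗ AddMonoidHom.toIntLinearMap (e : _ →+ _) = Matrix.toLin' A from
    LinearMap.ext fun z => rfl, LinearMap.det_toLin'] at h2
  rw [h2]
  rfl

theorem card_torsion_le {p : ℕ} [Fact p.Prime] (hfin : Module.finrank (ZMod p) ↥(Module.End.eigenspace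
      (Matrix.toLin' (M.map (Int.castRingHom (ZMod p)))) (q : ZMod p)) ≤ 1) :
    Nat.card {e : kerT (L := L) M q // e ^ p = 1} ≤ p := by
  classical
  by_cases hp : p ∣ Fintype.card Lˣ
  · obtain ⟨ξ, hξ⟩ := exists_prime_orderOf_dvd_card p hp
    have key : ∀ e : {e : kerT (L := L) M q // e ^ p = 1}, ∃ z : Fin D.rank → ℤ, (e.1 : Fin D.rank → Lˣ) = fun m => ξ ^ z m :=
      fun e => exists_exponents hξ (congrArg Subtype.val e.2)
    choose z hz using key
    let ι : {e : kerT (L := L) M q // e ^ p = 1} → ↥(Module.End.eigenspace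
        (Matrix.toLin' (M.map (Int.castRingHom (ZMod p)))) (q : ZMod p)) :=
      fun e => ⟨_, exponents_eigen hξ (hz e ▸ e.1.2)⟩
    have hι : Function.Injective ι := fun a b h => by
      refine Subtype.ext (Subtype.ext ?_)
      rw [hz a, hz b]
      funext m
      rw [zpow_eq_zpow_iff_modEq, hξ, ← ZMod.intCast_eq_intCast_iff]
      exact congrFun (congrArg Subtype.val h) m
    refine (Nat.card_le_card_of_injective ι hι).trans ?_
    rw [Module.natCard_eq_pow_finrank (K := ZMod p), Nat.card_zmod]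
    exact (Nat.pow_le_pow_right (Fact.out : p.Prime).pos hfin).trans_eq (pow_one p)
  · have hsub : Subsingleton {e : kerT (L := L) M q // e ^ p = 1} := by
      refine ⟨fun a b => Subtype.ext (Subtype.ext (funext fun m => ?_))⟩
      have hone : ∀ e : {e : kerT (L := L) M q // e ^ p = 1}, (e.1 : Fin D.rank → Lˣ) m = 1 := fun e => by
        have h1 : (e.1 : Fin D.rank → Lˣ) m ^ p = 1 := congrFun (congrArg Subtype.val e.2) m
        exact orderOf_eq_one_iff.1 (Nat.eq_one_of_dvd_coprimes ((Fact.out : p.Prime).coprime_iff_not_dvd.2 hp)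
          (orderOf_dvd_of_pow_eq_one h1) orderOf_dvd_card)
      rw [hone a, hone b]
    exact (Finite.card_le_one_iff_subsingleton.2 hsub).trans (Fact.out : p.Prime).one_lt.le

/-- A group with at most p solutions of x^p = 1 for each prime p is cyclic. -/
theorem isCyclic_of_prime_torsion {K : Type*} [CommGroup K] [Finite K]
    (h : ∀ p : ℕ, p.Prime → Nat.card {x : K // x ^ p = 1} ≤ p) : IsCyclic K := by
  classical
  have key : ∀ n : ℕ, 0 < n → Nat.card (powMonoidHom n : K →* K).ker ≤ n := by
    intro n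
    induction n using Nat.recOnMul with
    | zero => intro h0; omega
    | one =>
      intro _
      have : (powMonoidHom 1 : K →* K).ker = ⊥ := by ext x; simp
      rw [this, Subgroup.card_bot]
    | prime p hp => intro _; exact h p hp
    | mul a b iha ihb =>
      intro hab
      have ha : 0 < a := Nat.pos_of_mul_pos_right hab
      have hb : 0 < b := Nat.pos_of_mul_pos_left hab
      let f : (powMonoidHom (a * b) : K →* K).ker →* K := (powMonoidHom a).comp (Subgroup.subtype _)
      have h1 := Subgroup.card_eq_card_quotient_mul_card_subgroup f.ker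
      rw [Nat.card_congr (QuotientGroup.quotientKerEquivRange f).toEquiv] at h1
      have h2 : f.range ≤ (powMonoidHom b : K →* K).ker := by
        rintro _ ⟨⟨x, hx⟩, rfl⟩
        show (x ^ a) ^ b = 1
        rw [← pow_mul]; exact hx
      have h3 : Nat.card f.ker ≤ Nat.card (powMonoidHom a : K →* K).ker :=
        Nat.card_le_card_of_injective (fun x => ⟨x.1.1, x.2⟩) fun x y e => Subtype.ext (Subtype.ext
          (congrArg Subtype.val e :))
      rw [h1]
      refine le_of_le_of_eq ?_ (mul_comm b a)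
      exact Nat.mul_le_mul ((Subgroup.card_le_of_le h2).trans (ihb hb)) (h3.trans (iha ha))
  have := Fintype.ofFinite K
  refine isCyclic_of_card_pow_eq_one_le fun n hn => le_trans ?_ (key n hn)
  rw [Nat.card_eq_fintype_card, Fintype.card_of_subtype (Finset.univ.filter fun a => a ^ n = 1)]
  intro x; simp

end Cfsg.Agent.Small.SelfCent
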