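import Cfsg.Agent.Lib.Small.SelfCent.Frame

/-!
Self-centralising cyclic tori of Chevalley groups with trivial diagonal kernel.
-/

set_option autoImplicit false
set_option linter.unusedSectionVars false

namespace Cfsg.Agent.Small.SelfCent

open Cfsg.Lie Cfsg.Agent.Lie Cfsg.Agent.Small.ChevInvol Cfsg.Agent.Small.SylowHom Matrix Polynomial
open scoped MatrixGroups

variable {D : ChevalleyDatum} (hF : Facts D)

theorem pow_eq_one_of_dvd {M : Matrix (Fin D.rank) (Fin D.rank) ℤ} {χ : ℤ[X]} {d : ℕ} (hM : M.charpoly = χ)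
    (hχ : χ ∣ X ^ d - 1) : M ^ d = 1 := by
  obtain ⟨g, hg⟩ := hχ
  have h := congrArg (aeval M) hg
  rw [map_mul, ← hM, aeval_self_charpoly, zero_mul, map_sub, map_pow, aeval_X, map_one, sub_eq_zero] at h
  exact h

theorem finrank_eigen_le_one {M : Matrix (Fin D.rank) (Fin D.rank) ℤ} {χ : ℤ[X]} {d : ℕ} (hM : M.charpoly = χ)
    (hχ : χ ∣ X ^ d - 1) {p : ℕ} [Fact p.Prime] (hp : ¬ p ∣ d) (a : ZMod p) :
    Module.finrank (ZMod p) ↥(Module.End.eigenspace (Matrix.toLin' (M.map (Int.castRingHom (ZMod p)))) a) ≤ 1 := by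
  refine (LinearMap.finrank_eigenspace_le _ a).trans (rootMultiplicity_le_one_of_separable ?_ a)
  refine ((X_pow_sub_one_separable_iff (F := ZMod p)).2 fun h => hp ((ZMod.natCast_eq_zero_iff _ _).1 h)).of_dvd ?_
  rw [Matrix.charpoly_toLin', Matrix.charpoly_map, hM]
  have h := Polynomial.map_dvd (Int.castRingHom (ZMod p)) hχ
  simpa using h

theorem torsion_le_of_sq {K : Type*} [CommGroup K] [Finite K] {p : ℕ} [Fact p.Prime] (h : ¬ p ^ 2 ∣ Nat.card K) :
    Nat.card {x : K // x ^ p = 1} ≤ p := by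
  have hP : IsPGroup p (powMonoidHom p : K →* K).ker := fun x => ⟨1, Subtype.ext (by
    rw [pow_one]; exact x.2)⟩
  obtain ⟨n, hn⟩ := IsPGroup.iff_card.1 hP
  refine le_of_eq_of_le (show Nat.card {x : K // x ^ p = 1} = p ^ n from hn) ?_
  rcases Nat.lt_or_ge n 2 with h2 | h2
  · interval_cases n
    · simpa using (Fact.out : p.Prime).one_lt.le
    · exact (pow_one p).le
  · exact absurd ((pow_dvd_pow p h2).trans (hn ▸ Subgroup.card_subgroup_dvd_card _)) h

include hF in
theorem self_cent {F : Type*} [Field F] [Fintype F] {q : ℕ} (hq : Fintype.card F = q) {dd : Fin 0 → ℕ}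
    (Kc : KerCert (cartanSys D) dd) {ds : List ℕ} (hds : ds.length = D.rank)
    (hlen : ∀ q, hF.lenSum (List.range D.rank) q = (ds.map fun e => ∑ j ∈ Finset.range e, q ^ j).prod)
    {d : ℕ} (hd : d ∈ ds) {χ : ℤ[X]} (hOnly : Only D ds d χ) (hχ : χ ∣ X ^ d - 1)
    {r : ℕ} [Fact r.Prime] (hord : orderOf (q : ZMod r) = d) (hd0 : 0 < d) (hrW : ¬ r ∣ ds.prod)
    (hsmall : ∀ p : ℕ, p.Prime → p ∣ d → ¬ p ^ 2 ∣ (χ.eval (q : ℤ)).natAbs) :
    ∃ H : Subgroup ↥(D.group F), IsCyclic ↥H ∧ Nat.card ↥H = (χ.eval (q : ℤ)).natAbs ∧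
      Subgroup.centralizer (H : Set ↥(D.group F)) = H := by
  classical
  have hq2 : 2 ≤ q := hq ▸ Fintype.one_lt_card
  have hdd : ∀ a : Fin 0, dd a ∣ ds.prod := fun a => a.elim0
  have hrG : r ∣ Nat.card ↥(D.group F) := by
    have hg := hF.card_group (F := F) hq Kc ds hds hlen
    rw [Finset.univ_eq_empty, Finset.prod_empty, one_mul] at hg
    rw [hg]
    refine ((SylowHom.dvd_pred_pow (r := r) (q := q) (by omega) d).2 (by rw [hord])).trans (Dvd.dvd.mul_left ?_ _)
    exact List.dvd_prod (List.mem_map.2 ⟨d, hd, rfl⟩)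
  -- the extension
  obtain ⟨p, hp⟩ := CharP.exists F
  have := hp
  have : Fact p.Prime := ⟨(CharP.char_is_prime_or_zero F p).resolve_right (CharP.char_ne_zero_of_finite F p)⟩
  have : NeZero d := ⟨hd0.ne'⟩
  let L := FiniteField.Extension F p d
  let _ := Fintype.ofFinite L
  have hL : Fintype.card L = q ^ d := by
    rw [← Nat.card_eq_fintype_card, FiniteField.natCard_extension, Nat.card_eq_fintype_card, hq]
  obtain ⟨n, -, hn⟩ := FiniteField.card F p
  have : CharP L p := charP_of_injective_ringHom (algebraMap F L).injective p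
  let σ : L ≃+* L := iterateFrobeniusEquiv L p n
  have hσ : ∀ t : L, σ t = t ^ q := fun t => by rw [show σ t = t ^ p ^ (n : ℕ) from rfl, ← hn, hq]
  set f := algebraMap F L
  obtain ⟨x, ω, c, hx, hc, hχM, hiff, -, hg⟩ := frame hF Kc hdd hlen hrW hq hds hOnly hord hrG hL σ hσ f
  set M := wmat ω
  have hinj : Function.Injective (torus D L) := torus_injective hF Kc
  have hfixf : ∀ h : GL D.Idx F, gmap σ.toRingHom (gmap f h) = gmap f h := fun h => by
    refine Units.ext (Matrix.ext fun a b => ?_)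
    show σ (f ((h : Matrix D.Idx D.Idx F) a b)) = f ((h : Matrix D.Idx D.Idx F) a b)
    rw [hσ, ← map_pow, ← hq, FiniteField.pow_card]
  have hsig : ∀ e : Fin D.rank → Lˣ, gmap σ.toRingHom (torus D L e) = torus D L (e ^ q) := fun e => by
    rw [gmap_torus]
    congr 1
    funext m
    exact Units.ext (by rw [Pi.pow_apply, Units.val_pow_eq_pow_val]; exact hσ _)
  have hfix : ∀ t, σ t = t → ∃ t₀, f t₀ = t := fun t ht => by
    rw [hσ] at ht
    have hdeg : (X ^ q - X : L[X]).natDegree = q := FiniteField.X_pow_card_sub_X_natDegree_eq L hq2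
    have hne : (X ^ q - X : L[X]) ≠ 0 := FiniteField.X_pow_card_sub_X_ne_zero L hq2
    let S := insert t (Finset.univ.image f)
    by_contra hno
    have h1 : S.card = q + 1 := by
      rw [Finset.card_insert_of_notMem (fun h => hno (by simpa using h)), Finset.card_image_of_injective _ f.injective,
        Finset.card_univ, hq]
    have h2 : S ⊆ (X ^ q - X : L[X]).roots.toFinset := fun s hs => by
      rw [Multiset.mem_toFinset, mem_roots hne, IsRoot.def, eval_sub, eval_pow, eval_X, sub_eq_zero]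
      rcases Finset.mem_insert.1 hs with rfl | hs
      · exact ht
      · obtain ⟨a, -, rfl⟩ := Finset.mem_image.1 hs
        rw [← map_pow, ← hq, FiniteField.pow_card]
    have h3 := (Finset.card_le_card h2).trans ((Multiset.toFinset_card_le _).trans (card_roots' _))
    omega
  have hpre : ∀ e : kerT (L := L) M q, c⁻¹ * torus D L e.1 * c ∈ (D.group F).map (gmap f) := fun e => by
    refine hF.fixed_mem_map Kc hfix (mul_mem (mul_mem (inv_mem hc) (hF.torus_mem_group _)) hc) ?_
    rw [map_mul, map_mul, map_inv, hsig, ← mem_kerT.1 e.2, ← hg]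
    group
  choose φ hφG hφ using fun e => Subgroup.mem_map.1 (hpre e)
  let Φ : kerT (L := L) M q →* ↥(D.group F) := MonoidHom.mk' (fun e => ⟨φ e, hφG e⟩) fun a b =>
    Subtype.ext (gmap_injective f (by
      show gmap f (φ (a * b)) = gmap f (φ a * φ b)
      rw [map_mul, hφ, hφ, hφ, Subgroup.coe_mul, map_mul]
      group))
  have hΦinj : Function.Injective Φ := fun a b h => Subtype.ext (hinj (by
    have h' : gmap f (φ a) = gmap f (φ b) := congrArg (fun y : ↥(D.group F) => gmap f (y : GL D.Idx F)) h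
    rw [hφ, hφ] at h'
    simpa using h'))
  have hrange : Φ.range = Subgroup.centralizer ({⟨x, hx⟩} : Set ↥(D.group F)) := by
    ext ⟨h, hh⟩
    rw [Subgroup.mem_centralizer_singleton_iff, MonoidHom.mem_range]
    constructor
    · rintro ⟨e, he⟩
      obtain rfl : φ e = h := congrArg Subtype.val he
      refine Subtype.ext ((hiff _ (hφG e)).2 ?_)
      rw [hφ]
      have : c * (c⁻¹ * torus D L e.1 * c) * c⁻¹ = torus D L e.1 := by group
      rw [this]
      exact torus_mem_H hF _
    · intro hcomm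
      obtain ⟨e, he⟩ := exists_torus hF ((hiff h hh).1 (congrArg Subtype.val hcomm))
      have hek : e ∈ kerT (L := L) M q := by
        rw [mem_kerT]
        refine hinj ?_
        rw [← hg, ← hsig, he, map_mul, map_mul, map_inv, hfixf]
        group
      refine ⟨⟨e, hek⟩, Subtype.ext (gmap_injective f ?_)⟩
      show gmap f (φ ⟨e, hek⟩) = gmap f h
      rw [hφ]
      show c⁻¹ * torus D L e * c = gmap f h
      rw [he]
      group
  have hM := pow_eq_one_of_dvd hχM hχ
  have hcard : Nat.card (kerT (L := L) M q) = (χ.eval (q : ℤ)).natAbs := by rw [card_kerT hL hM, hχM]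
  have hcyc : IsCyclic (kerT (L := L) M q) := isCyclic_of_prime_torsion fun p' hp' => by
    have : Fact p'.Prime := ⟨hp'⟩
    by_cases hpd : p' ∣ d
    · exact torsion_le_of_sq (hcard ▸ hsmall p' hp' hpd)
    · exact card_torsion_le (finrank_eigen_le_one hχM hχ hpd _)
  refine ⟨Φ.range, isCyclic_of_surjective _ Φ.rangeRestrict_surjective, ?_, le_antisymm ?_ ?_⟩
  · rw [← hcard]; exact Nat.card_congr (MonoidHom.ofInjective hΦinj).toEquiv.symm
  · conv_rhs => rw [hrange]
    refine Subgroup.centralizer_le (Set.singleton_subset_iff.2 ?_)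
    rw [SetLike.mem_coe, hrange, Subgroup.mem_centralizer_singleton_iff]
  · rintro _ ⟨a, rfl⟩
    rw [Subgroup.mem_centralizer_iff]
    rintro _ ⟨b, rfl⟩
    rw [← map_mul, ← map_mul, mul_comm]

end Cfsg.Agent.Small.SelfCent
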