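import Cfsg.Agent.Lib.Small.SylowHom.Coords

/-!
Words in the fundamental reflections: their effect on the characters, and the word of a reflection.
-/

set_option autoImplicit false
set_option linter.unusedSectionVars false

namespace Cfsg.Agent.Small.SelfCent

open Cfsg.Lie Cfsg.Agent.Lie Cfsg.Agent.Small.ChevInvol Cfsg.Agent.Small.SylowHom Matrix

variable {D : ChevalleyDatum} (hF : Facts D) {L : Type*} [Field L]

include hF in
theorem torChar_reflT (i : Fin D.rank) (c : Fin D.rank → Lˣ) (s : Fin D.nroots) :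
    torChar D (reflT i c) s.val = torChar D c (hF.wS i • s : Fin D.nroots).val := by
  rw [Facts.wS_smul, torChar, torChar]
  simp only [reflT, Pi.mul_apply, _root_.mul_zpow, Finset.prod_mul_distrib]
  rw [Finset.prod_eq_single i (f := fun m => (Pi.mulSingle i (torChar D c (D.simple i.val))⁻¹ : Fin D.rank → Lˣ) m ^
      D.cartan m.val s.val) (fun b _ hb => by rw [Pi.mulSingle_eq_of_ne hb, _root_.one_zpow])
    (fun h => absurd (Finset.mem_univ i) h), Pi.mulSingle_eq_same, torChar, ← Finset.prod_inv_distrib,
    ← Finset.prod_zpow, ← Finset.prod_mul_distrib]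
  refine Finset.prod_congr rfl fun m _ => ?_
  rw [hF.cartan_refl i.val i.isLt s s.isLt m.val m.isLt, sub_eq_add_neg, _root_.zpow_add,
    ← _root_.zpow_neg (c m), ← _root_.zpow_mul]
  ring_nf

include hF in
theorem torChar_act (ω : List (Fin D.rank)) (c : Fin D.rank → Lˣ) (s : Fin D.nroots) :
    torChar D (act (wmat ω) c) s.val = torChar D c ((hF.refSys.pr ω)⁻¹ • s : Fin D.nroots).val := by
  induction ω generalizing s with
  | nil => simp [wmat, act_one]
  | cons i ω ih =>
    rw [wmat_cons, act_mul, act_smat, torChar_reflT hF, ih, RefSystem.pr_cons, _root_.mul_inv_rev, RefSystem.s_inv, mul_smul]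
    rfl

include hF in
theorem smat_sq (i : Fin D.rank) : smat i * smat i = (1 : Matrix (Fin D.rank) (Fin D.rank) ℤ) := by
  ext m t
  simp only [Matrix.mul_apply, smat_apply, sub_mul, mul_sub, ite_mul, mul_ite, one_mul, mul_one, zero_mul, mul_zero,
    Finset.sum_sub_distrib, Matrix.one_apply]
  by_cases h : m = i
  · subst h
    have h2 : cartanSys D m m = 2 := hF.cartan_simple m m.isLt
    simp [Finset.sum_ite_eq', h2]
    ring
  · simp [h]

include hF in
theorem wmat_mul_reverse (ω : List (Fin D.rank)) : wmat ω * wmat ω.reverse = 1 := by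
  induction ω with
  | nil => simp [wmat]
  | cons i ω ih =>
    rw [List.reverse_cons, wmat_append, wmat_cons, show wmat [i] = smat i by simp [wmat]]
    calc smat i * wmat ω * (wmat ω.reverse * smat i) = smat i * (wmat ω * wmat ω.reverse) * smat i := by
          simp only [mul_assoc]
      _ = 1 := by rw [ih, mul_one, smat_sq hF]

include hF in
theorem smat_det (i : Fin D.rank) : (smat i : Matrix (Fin D.rank) (Fin D.rank) ℤ).det = -1 := by
  have e : (smat i : Matrix (Fin D.rank) (Fin D.rank) ℤ) =
      (1 : Matrix (Fin D.rank) (Fin D.rank) ℤ).updateRow i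
        (∑ t, ((if i = t then 1 else 0) - cartanSys D i t) • (1 : Matrix (Fin D.rank) (Fin D.rank) ℤ) t) := by
    ext m u
    rw [smat_apply, Matrix.updateRow_apply]
    by_cases h : m = i
    · subst h; simp [Finset.sum_apply, Matrix.one_apply, sub_mul, mul_ite, Finset.sum_sub_distrib, ite_apply]
    · simp [h, Matrix.one_apply]
  rw [e, Matrix.det_updateRow_sum, Matrix.det_one, if_pos rfl, show cartanSys D i i = 2 from hF.cartan_simple i i.isLt]
  norm_num

include hF in
theorem exists_orbit (s : Fin D.nroots) : ∃ (w : hF.weyl) (i : Fin D.rank), w • hF.refSys.α i = s := by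
  have key : ∀ r, r < D.nroots → ∃ (w : hF.weyl) (i : Fin D.rank), (w • hF.refSys.α i : Fin D.nroots).val = r := by
    refine hF.simple_induction _ (fun i hi => ⟨1, ⟨i, hi⟩, by rw [one_smul]; rfl⟩) ?_
    rintro i hi r hr ⟨w, j, hw⟩
    exact ⟨hF.wS ⟨i, hi⟩ * w, j, by rw [mul_smul, Facts.wS_smul, hw]⟩
  obtain ⟨w, i, h⟩ := key s.val s.isLt
  exact ⟨w, i, Fin.ext h⟩

include hF in
/-- A root vanishing on c gives a reflection fixing c. -/
theorem reflection_word (c : Fin D.rank → Lˣ) (s : Fin D.nroots) (hs : torChar D c s.val = 1) :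
    ∃ Ω : List (Fin D.rank), act (wmat Ω) c = c ∧ (wmat Ω).det = -1 := by
  obtain ⟨w, i, rfl⟩ := exists_orbit hF s
  obtain ⟨ω, rfl⟩ := hF.refSys.exists_word w
  refine ⟨ω ++ i :: ω.reverse, ?_, ?_⟩
  · rw [wmat_append, wmat_cons, act_mul, act_mul, act_smat]
    have h1 : torChar D (act (wmat ω.reverse) c) (D.simple i.val) = 1 := by
      have h2 := torChar_act hF ω.reverse c (hF.refSys.α i)
      rw [RefSystem.pr_reverse, inv_inv, hs] at h2
      exact h2
    rw [show reflT i (act (wmat ω.reverse) c) = act (wmat ω.reverse) c by simp [reflT, h1], ← act_mul,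
      wmat_mul_reverse hF, act_one]
  · have h := congrArg Matrix.det (wmat_mul_reverse hF ω)
    rw [Matrix.det_mul, Matrix.det_one] at h
    rw [wmat_append, wmat_cons, Matrix.det_mul, Matrix.det_mul, smat_det hF]
    linear_combination -h

end Cfsg.Agent.Small.SelfCent
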