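import Cfsg.Agent.Lib.Small.SylowHom.Coords

/-!
The stabiliser in the Weyl group of a torus element of prime order prime to the Weyl group on which
no root vanishes is trivial.
-/

set_option autoImplicit false
set_option linter.unusedSectionVars false

namespace Cfsg.Agent.Small.SelfCent

open Cfsg.Lie Cfsg.Agent.Lie Cfsg.Agent.Small.ChevInvol Cfsg.Agent.Small.SylowHom Matrix

variable {D : ChevalleyDatum} (hF : Facts D)

/-- The value of a root on integral torus coordinates. -/
def rootVal (z : Fin D.rank → ℤ) (s : Fin D.nroots) : ℤ := ∑ m, z m * D.cartan m.val s.val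

include hF in
theorem rootVal_neg (z : Fin D.rank → ℤ) (s : Fin D.nroots) :
    rootVal z (hF.refSys.neg s) = -rootVal z s := by
  rw [rootVal, rootVal, ← Finset.sum_neg_distrib]
  exact Finset.sum_congr rfl fun m _ => by
    rw [show (hF.refSys.neg s).val = D.neg s.val from rfl, hF.cartan_neg m m.isLt s s.isLt, mul_neg]

include hF in
theorem rootVal_weyl (z : Fin D.rank → ℤ) (w : hF.weyl) (i : Fin D.rank) (s : Fin D.nroots) :
    rootVal z (w • hF.wS i • s) =
      rootVal z (w • s) - D.cartan i.val s.val * rootVal z (w • hF.refSys.α i) := by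
  simp only [rootVal, Finset.mul_sum, ← Finset.sum_sub_distrib]
  refine Finset.sum_congr rfl fun m _ => ?_
  rw [hF.weyl_linear w (hF.wS i • s) s (hF.refSys.α i) (D.cartan i.val s.val) (fun k hk => ?_) m m.isLt]
  · ring
  · rw [Facts.wS_smul, hF.cartan_refl i i.isLt s s.isLt k hk]; rfl

include hF in
theorem eq_one_of_fix_mod (z : Fin D.rank → ℤ) (r : ℕ) (u : hF.weyl)
    (hreg : ∀ s, ¬ (r : ℤ) ∣ (orderOf u : ℤ) * rootVal z s)
    (hfix : ∀ s, (r : ℤ) ∣ rootVal z (u • s) - rootVal z s) : u = 1 := by
  classical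
  let _ := Fintype.ofFinite (Subgroup.zpowers u)
  -- the average over the group generated by u
  let g : hF.weyl → Fin D.nroots → ℤ := fun w s =>
    ∑ a : Subgroup.zpowers u, rootVal z ((a : hF.weyl) • w • s)
  have hlin : ∀ w i s, g w (hF.wS i • s) = g w s - D.cartan i.val s.val * g w (hF.refSys.α i) := by
    intro w i s
    simp only [g, Finset.mul_sum, ← Finset.sum_sub_distrib, ← mul_smul]
    refine Finset.sum_congr rfl fun a _ => ?_
    simp only [mul_smul]
    have h := rootVal_weyl hF z ((a : hF.weyl) * w) i s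
    simpa only [mul_smul] using h
  have hneg : ∀ w s, g w (hF.refSys.neg s) = -g w s := by
    intro w s
    simp only [g, ← Finset.sum_neg_distrib, RefSystem.smul_neg, rootVal_neg hF]
  have hinv : ∀ w s, g w ((w⁻¹ * u * w) • s) = g w s := by
    intro w s
    simp only [g, mul_smul, smul_inv_smul]
    refine Fintype.sum_equiv (Equiv.mulRight (⟨u, Subgroup.mem_zpowers u⟩ : Subgroup.zpowers u)) _ _ fun a => ?_
    simp [mul_smul]
  have hne : ∀ w s, g w s ≠ 0 := by
    intro w s h0
    have hst : ∀ a ∈ Subgroup.zpowers u, ∀ t : Fin D.nroots, (r : ℤ) ∣ rootVal z (a • t) - rootVal z t := by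
      intro a ha
      obtain ⟨k, rfl⟩ := Submonoid.mem_powers_iff a u |>.1
        ((isOfFinOrder_of_finite u).mem_powers_iff_mem_zpowers.2 ha)
      induction k with
      | zero => intro t; simp
      | succ k ih =>
        intro t
        have := dvd_add (ih (Subgroup.npow_mem_zpowers u k) (u • t)) (hfix t)
        rwa [← mul_smul, ← pow_succ, sub_add_sub_cancel] at this
    have h1 : (r : ℤ) ∣ g w s - (Nat.card (Subgroup.zpowers u) : ℤ) * rootVal z (w • s) := by
      have e : (Nat.card (Subgroup.zpowers u) : ℤ) * rootVal z (w • s) =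
          ∑ _a : Subgroup.zpowers u, rootVal z (w • s) := by
        rw [Finset.sum_const, Finset.card_univ, nsmul_eq_mul, Nat.card_eq_fintype_card]
      rw [e, ← Finset.sum_sub_distrib]
      exact Finset.dvd_sum fun a _ => hst a a.2 _
    rw [h0, zero_sub, dvd_neg, Nat.card_zpowers] at h1
    exact hreg _ h1
  -- a chamber containing the average
  let pos : hF.weyl → Finset (Fin D.nroots) := fun w => hF.refSys.P.filter fun s => 0 < g w s
  obtain ⟨w, -, hw⟩ := Finset.exists_max_image (Finset.univ : Finset hF.weyl) (fun w => (pos w).card)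
    Finset.univ_nonempty
  have hsimple : ∀ i, 0 < g w (hF.refSys.α i) := by
    intro i
    by_contra hc
    have hlt : g w (hF.refSys.α i) < 0 := lt_of_le_of_ne (not_lt.1 hc) (hne _ _)
    have hs : ∀ s, g (w * hF.wS i) s = g w (hF.wS i • s) := fun s => by simp only [g, mul_smul]
    have hα : hF.wS i • hF.refSys.α i = hF.refSys.neg (hF.refSys.α i) := hF.refSys.s_α i
    have hsub : insert (hF.refSys.α i) ((pos w).image fun s => hF.wS i • s) ⊆ pos (w * hF.wS i) := by
      intro x hx
      rcases Finset.mem_insert.1 hx with rfl | hx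
      · refine Finset.mem_filter.2 ⟨hF.refSys.α_mem i, ?_⟩
        rw [hs, hα, hneg]; omega
      · obtain ⟨s, hsm, rfl⟩ := Finset.mem_image.1 hx
        obtain ⟨hsP, hsg⟩ := Finset.mem_filter.1 hsm
        refine Finset.mem_filter.2 ⟨hF.refSys.perm i s hsP fun h => ?_, ?_⟩
        · rw [h] at hsg; omega
        · rwa [hs, ← mul_smul, hF.wS_sq, one_smul]
    have hnot : hF.refSys.α i ∉ (pos w).image fun s => hF.wS i • s := by
      intro h
      obtain ⟨s, hsm, he⟩ := Finset.mem_image.1 h
      have : s = hF.refSys.neg (hF.refSys.α i) := by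
        rw [← hα, ← he, ← mul_smul, hF.wS_sq, one_smul]
      rw [this] at hsm
      exact ((hF.refSys.neg_mem _).1 (Finset.mem_filter.1 hsm).1) (hF.refSys.α_mem i)
    have h1 := Finset.card_le_card hsub
    rw [Finset.card_insert_of_notMem hnot, Finset.card_image_of_injective _ (MulAction.injective (hF.wS i))] at h1
    have := hw (w * hF.wS i) (Finset.mem_univ _)
    omega
  have hpos : ∀ (n : ℕ) (s : Fin D.nroots), s.val = n → D.nroots / 2 ≤ s.val → 0 < g w s := by
    intro n
    induction n using Nat.strong_induction_on with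
    | _ n ih =>
      intro s hsn hs2
      obtain ⟨i, hi, hlt⟩ := hF.exists_refl_lt s.isLt hs2
      by_cases hp : s.val = D.simple i
      · rw [show s = hF.refSys.α ⟨i, hi⟩ from Fin.ext hp]; exact hsimple _
      have hlow := hF.refl_pos i hi s.val s.isLt hs2 hp
      have h1 := ih _ (show D.reflectRoot i s.val < n by omega) (hF.wS ⟨i, hi⟩ • s) rfl hlow
      have h2 : 0 < D.cartan i s.val := by
        have h3 := hF.psi_refl hi s.isLt
        have h4 := hF.psi_lt hlt s.isLt
        have h5 := hF.psi_pos (hF.simple_lt i hi) (hF.simple_ge i hi)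
        nlinarith
      have h3 := hlin w ⟨i, hi⟩ s
      nlinarith [hsimple ⟨i, hi⟩]
  -- the conjugate of u preserves the positive roots
  have hu1 : w⁻¹ * u * w = 1 := by
    refine hF.refSys.eq_one_of_len_eq_zero (Finset.card_eq_zero.2 (Finset.filter_eq_empty_iff.2 fun s hs => ?_))
    intro hn
    have hP : ∀ t : Fin D.nroots, t ∈ hF.refSys.P ↔ D.nroots / 2 ≤ t.val := fun t => by simp [Facts.refSys]
    have h1 := hpos _ s rfl ((hP s).1 hs)
    have h2 := hpos _ _ rfl ((hP _).1 ((hF.refSys.neg_mem _).2 hn))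
    rw [hneg, hinv] at h2
    omega
  calc u = w * (w⁻¹ * u * w) * w⁻¹ := by group
    _ = 1 := by rw [hu1]; group

include hF in
theorem eq_one_of_fix (z : Fin D.rank → ℤ) {r : ℕ} [Fact r.Prime] (u : hF.weyl) (hr : ¬ r ∣ orderOf u)
    (hreg : ∀ s, ¬ (r : ℤ) ∣ rootVal z s) (hfix : ∀ s, (r : ℤ) ∣ rootVal z (u • s) - rootVal z s) : u = 1 :=
  eq_one_of_fix_mod hF z r u (fun s h => (Int.Prime.dvd_mul' (Fact.out : r.Prime) h).elim
    (fun h => hr (Int.natCast_dvd_natCast.1 h)) (hreg s)) hfix

end Cfsg.Agent.Small.SelfCent
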