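import Cfsg.Agent.Lib.Small.SylowHom.Main
import Cfsg.Agent.Lib.Small.SelfCent.Stab
import Cfsg.Agent.Lib.Small.SelfCent.Words
import Cfsg.Agent.Lib.Small.SelfCent.Kernel

/-!
An element of prime order dividing only one cyclotomic value: conjugated into the split torus over the
extension of degree d, its centraliser is that torus, twisted by a Weyl element of known characteristic
polynomial.
-/

set_option autoImplicit false
set_option linter.unusedSectionVars false

namespace Cfsg.Agent.Small.SelfCent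

open Cfsg.Lie Cfsg.Agent.Lie Cfsg.Agent.Small.ChevInvol Cfsg.Agent.Small.SylowHom Matrix Polynomial
open scoped MatrixGroups

variable {D : ChevalleyDatum} (hF : Facts D)

/-- The words with an eigenvalue of exact order d modulo a large prime all have one characteristic polynomial. -/
def Only (D : ChevalleyDatum) (ds : List ℕ) (d : ℕ) (χ : ℤ[X]) : Prop :=
  ∀ (Ω : List (Fin D.rank)) (r : ℕ) [Fact r.Prime], ¬ r ∣ ds.prod → ∀ ζ : ZMod r, IsPrimitiveRoot ζ d →
    Module.End.eigenspace (Matrix.toLin' ((wmat Ω).map (Int.castRingHom (ZMod r)))) ζ ≠ ⊥ →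
      (wmat Ω).charpoly = χ

include hF in
theorem card_weyl_eq {ds : List ℕ}
    (hlen : ∀ q, hF.lenSum (List.range D.rank) q = (ds.map fun e => ∑ j ∈ Finset.range e, q ^ j).prod) :
    Nat.card hF.weyl = ds.prod := by
  rw [hF.card_weyl, hlen]
  simp

variable {L : Type*} [Field L]

theorem act_pow_one {c : Fin D.rank → Lˣ} {r : ℕ} (h : c ^ r = 1) (A : Matrix (Fin D.rank) (Fin D.rank) ℤ) :
    act A c ^ r = 1 := by
  funext m
  rw [Pi.pow_apply, act, ← Finset.prod_pow, Pi.one_apply]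
  refine Finset.prod_eq_one fun t _ => ?_
  rw [← zpow_natCast, ← _root_.zpow_mul, mul_comm, _root_.zpow_mul, zpow_natCast,
    show c t ^ r = 1 from congrFun h t, _root_.one_zpow]

theorem torChar_zpow (ξ : Lˣ) (z : Fin D.rank → ℤ) (s : Fin D.nroots) :
    torChar D (fun m => ξ ^ z m) s.val = ξ ^ rootVal z s := by
  rw [torChar, rootVal]
  induction (Finset.univ : Finset (Fin D.rank)) using Finset.induction_on with
  | empty => simp
  | insert a S ha ih => rw [Finset.prod_insert ha, Finset.sum_insert ha, ih, _root_.zpow_add, _root_.zpow_mul]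

variable [Fintype L] {r : ℕ} [Fact r.Prime] {k : ℕ} {dd : Fin k → ℕ} (Kc : KerCert (cartanSys D) dd)
  {ds : List ℕ} (hdd : ∀ a, dd a ∣ ds.prod)
  (hlen : ∀ q, hF.lenSum (List.range D.rank) q = (ds.map fun e => ∑ j ∈ Finset.range e, q ^ j).prod)
  (hrW : ¬ r ∣ ds.prod)

include hF Kc hdd hlen hrW in
/-- A torus element of order r on which no root vanishes is centralised only by the torus. -/
theorem centralizer_eq_T {c : Fin D.rank → Lˣ} (hc : c ^ r = 1) (hne : c ≠ 1)
    (hreg : ∀ s : Fin D.nroots, torChar D c s.val ≠ 1) {g : GL D.Idx L} (hg : g ∈ D.group L)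
    (hgc : g * torus D L c = torus D L c * g) : g ∈ (hF.tsys L).H := by
  classical
  let _ := Fintype.ofFinite hF.weyl
  have hr : r ∣ Fintype.card Lˣ := by
    obtain ⟨m, hm⟩ := Function.ne_iff.1 hne
    have h1 : c m ^ r = 1 := congrFun hc m
    rw [← orderOf_eq_prime h1 hm]
    exact orderOf_dvd_card
  obtain ⟨ξ, hξ⟩ := exists_prime_orderOf_dvd_card r hr
  obtain ⟨z, hz⟩ := exists_exponents hξ hc
  have hdvd : ∀ s, ((r : ℤ) ∣ rootVal z s ↔ torChar D c s.val = 1) := fun s => by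
    rw [hz, torChar_zpow, ← hξ, orderOf_dvd_iff_zpow_eq_one]
  have hfixw : ∀ w, FixT hF c w → w = 1 := by
    intro w hw
    obtain ⟨ω, hω⟩ := hF.refSys.exists_word w
    obtain ⟨a', ha', he⟩ := (hF.tsys L).nw_eq hω
    have e : (hF.tsys L).nw ω * torus D L c * ((hF.tsys L).nw ω)⁻¹ = torus D L c := by
      rw [he]
      calc a' * (hF.tsys L).nW w * torus D L c * (a' * (hF.tsys L).nW w)⁻¹
          = a' * ((hF.tsys L).nW w * torus D L c * ((hF.tsys L).nW w)⁻¹) * a'⁻¹ := by group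
        _ = _ := by
          rw [show (hF.tsys L).nW w * torus D L c * ((hF.tsys L).nW w)⁻¹ = torus D L c from hw,
            H_comm hF ha' (torus_mem_H hF c), mul_inv_cancel_right]
    rw [nw_conj hF] at e
    have hact := torus_inj hF Kc hdd hrW e (act_pow_one hc _) hc
    refine inv_eq_one.1 (eq_one_of_fix hF z (r := r) w⁻¹ (fun h => hrW (h.trans ?_))
      (fun s h => hreg s ((hdvd s).1 h)) fun s => ?_)
    · rw [← card_weyl_eq hF hlen]
      exact orderOf_dvd_natCard _
    · have h1 := torChar_act hF ω c s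
      rw [hact, hω, hz, torChar_zpow, torChar_zpow, zpow_eq_zpow_iff_modEq, Int.modEq_iff_dvd, hξ] at h1
      exact h1
  have hCu : ∀ {Lst : List ℕ}, ClosedList D Lst → Nat.card (Cu hF c Lst) = 1 := fun {Lst} hL => by
    rw [card_Cu hF c hL, List.filter_eq_nil_iff.2 fun s hs => by
      simpa using hreg ⟨s, (hL.mem_pos s hs).2⟩]
    simp
  let t : ↥(D.group L) := ⟨torus D L c, hF.torus_mem_group c⟩
  have hcard := card_centralizer hF t c rfl
  rw [hCu hF.closedList_posL, one_mul, Finset.sum_congr rfl fun w _ => hCu (TorusSys.closed_invList w),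
    Finset.sum_const, smul_eq_mul, mul_one, show (Finset.univ.filter (FixT hF c)) = {1} from
      Finset.eq_singleton_iff_unique_mem.2 ⟨Finset.mem_filter.2 ⟨Finset.mem_univ _, ?_⟩,
        fun w hw => hfixw w (Finset.mem_filter.1 hw).2⟩, Finset.card_singleton, mul_one] at hcard
  swap
  · show (hF.tsys L).nW 1 * torus D L c * ((hF.tsys L).nW 1)⁻¹ = torus D L c
    rw [H_comm hF (hF.tsys L).nW_one (torus_mem_H hF c), mul_inv_cancel_right]
  have hle : D.diagonalSubgroup L ≤ D.group L := fun x hx => by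
    rw [hF.diagonalSubgroup_eq] at hx
    obtain ⟨e, rfl⟩ := hx
    exact hF.torus_mem_group e
  have hTC : T D L ≤ Subgroup.centralizer ({t} : Set ↥(D.group L)) := fun x hx => by
    rw [Subgroup.mem_centralizer_singleton_iff]
    exact Subtype.ext (H_comm hF ((mem_T hF).1 hx) (torus_mem_H hF c))
  have heq := Subgroup.eq_of_le_of_card_ge hTC (by
    rw [hcard, hF.tsys_H, T, Nat.card_congr (Subgroup.subgroupOfEquivOfLe hle).toEquiv])
  have hmem : (⟨g, hg⟩ : ↥(D.group L)) ∈ T D L := by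
    rw [heq, Subgroup.mem_centralizer_singleton_iff]
    exact Subtype.ext hgc
  exact (mem_T hF).1 hmem

variable {F : Type*} [Field F] [Fintype F] {q : ℕ} (hq : Fintype.card F = q) (hds : ds.length = D.rank)

include hF Kc hdd hlen hrW hq hds in
theorem frame {d : ℕ} {χ : ℤ[X]} (hOnly : Only D ds d χ) (hord : orderOf (q : ZMod r) = d)
    (hrG : r ∣ Nat.card ↥(D.group F)) (hL : Fintype.card L = q ^ d) (σ : L ≃+* L) (hσ : ∀ t, σ t = t ^ q)
    (f : F →+* L) :
    ∃ (x : GL D.Idx F) (ω : List (Fin D.rank)) (c : GL D.Idx L), x ∈ D.group F ∧ c ∈ D.group L ∧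
      (wmat ω).charpoly = χ ∧
      (∀ h ∈ D.group F, h * x = x * h ↔ c * gmap f h * c⁻¹ ∈ (hF.tsys L).H) ∧
      (∀ z ∈ D.group L, (∀ e, z * torus D L e = torus D L e * z) → z ∈ (hF.tsys L).H) ∧
      ∀ e, gmap σ.toRingHom c * c⁻¹ * torus D L e * (gmap σ.toRingHom c * c⁻¹)⁻¹ = torus D L (act (wmat ω) e) := by
  classical
  let j : ↥(D.group F) →* ↥(D.group L) :=
    ((gmap f).comp (D.group F).subtype).codRestrict _ fun g => group_le hF f g.2
  let σG : ↥(D.group L) →* ↥(D.group L) :=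
    ((gmap σ.toRingHom).comp (D.group L).subtype).codRestrict _ fun g => group_le hF σ.toRingHom g.2
  have hfix : ∀ x : ↥(D.group F), σG (j x) = j x := fun x => by
    refine Subtype.ext (Units.ext (Matrix.ext fun a b => ?_))
    show σ (f (((x : GL D.Idx F) : Matrix D.Idx D.Idx F) a b)) = f (((x : GL D.Idx F) : Matrix D.Idx D.Idx F) a b)
    rw [hσ, ← map_pow, ← hq, FiniteField.pow_card]
  have hQ : (Fintype.card L : ZMod r) = 1 := by rw [hL, Nat.cast_pow, ← hord]; exact pow_orderOf_eq_one _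
  obtain ⟨x, hx⟩ := exists_prime_orderOf_dvd_card' r hrG
  have hP : IsPGroup r ↥(Subgroup.zpowers (j x)) := by
    refine IsPGroup.of_card (n := 1) ?_
    rw [Nat.card_zpowers, orderOf_injective j (fun a b h =>
      Subtype.ext (gmap_injective f (congrArg Subtype.val h))), hx, pow_one]
  obtain ⟨c, -, hc⟩ := AltSec.conj_into (r := r) (le_top : T D L ≤ ⊤) (index_T hF Kc hdd hrW hds hlen hQ)
    (le_top : Subgroup.zpowers (j x) ≤ ⊤) hP
  have hyT := hc _ (Subgroup.mem_zpowers (j x))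
  set y := c * j x * c⁻¹ with hy
  have hy1 : orderOf y = r := by
    rw [hy, ← MulAut.conj_apply, MulEquiv.orderOf_eq, orderOf_injective j (fun a b h =>
      Subtype.ext (gmap_injective f (congrArg Subtype.val h))), hx]
  obtain ⟨c0, hc0, hc0r⟩ := exists_coords hF Kc hdd hrW (j := 1) ((mem_T hF).1 hyT) (by
    rw [pow_one, ← SubgroupClass.coe_pow, ← hy1, pow_orderOf_eq_one]; rfl)
  rw [pow_one] at hc0r
  have hc01 : c0 ≠ 1 := fun h => by
    rw [h, map_one] at hc0
    rw [show y = 1 from Subtype.ext hc0.symm, orderOf_one] at hy1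
    exact (Fact.out : r.Prime).one_lt.ne hy1
  obtain ⟨w, a, ha, hn⟩ := fusion hF (σG c * c⁻¹)
  obtain ⟨ω, hω⟩ := hF.refSys.exists_word w
  obtain ⟨a', ha', he⟩ := (hF.tsys L).nw_eq hω
  have hsig : gmap σ.toRingHom (torus D L c0) = torus D L (c0 ^ q) := by
    rw [gmap_torus]
    congr 1
    funext m
    exact Units.ext (by rw [Pi.pow_apply, Units.val_pow_eq_pow_val]; exact hσ _)
  have e1 : σG c * c⁻¹ * y * (σG c * c⁻¹)⁻¹ = σG y := by
    rw [hy, map_mul, map_mul, map_inv, hfix]; group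
  have hmem : σG y ∈ T D L := (mem_T hF).2 (by
    show gmap σ.toRingHom ((y : ↥(D.group L)) : GL D.Idx L) ∈ _
    rw [← hc0, hsig]; exact torus_mem_H hF _)
  have e2 := hn _ hyT (by rw [e1]; exact hmem)
  rw [e1] at e2
  set n := a * (hF.tsys L).nW w with hnd
  have hn' : ∀ e, n * torus D L e * n⁻¹ = torus D L (act (wmat ω) e) := fun e => by
    have hb : ∀ b ∈ (hF.tsys L).H, b * torus D L (act (wmat ω) e) * b⁻¹ = torus D L (act (wmat ω) e) :=
      fun b hb => by rw [H_comm hF hb (torus_mem_H hF _), mul_inv_cancel_right]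
    have h1 := hb (a * a'⁻¹) (mul_mem ha (inv_mem ha'))
    refine Eq.trans ?_ h1
    rw [← nw_conj hF, he, hnd]
    group
  have e3 : n * torus D L c0 * n⁻¹ = torus D L (c0 ^ q) := by rw [hc0, ← hsig, hc0, e2]; rfl
  rw [hn'] at e3
  have hact : act (wmat ω) c0 = c0 ^ q :=
    torus_inj hF Kc hdd hrW e3 (act_pow_one hc0r _) (by rw [← pow_mul, mul_comm, pow_mul, hc0r, one_pow])
  have hr : r ∣ Fintype.card Lˣ := by
    obtain ⟨m, hm⟩ := Function.ne_iff.1 hc01
    have h1 : c0 m ^ r = 1 := congrFun hc0r m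
    rw [← orderOf_eq_prime h1 hm]
    exact orderOf_dvd_card
  obtain ⟨ξ, hξ⟩ := exists_prime_orderOf_dvd_card r hr
  obtain ⟨z, hz⟩ := exists_exponents hξ hc0r
  have hchar : ∀ Ω, act (wmat Ω) c0 = c0 ^ q → (wmat Ω).charpoly = χ := fun Ω hΩ => by
    refine hOnly Ω r hrW (q : ZMod r) (hord ▸ IsPrimitiveRoot.orderOf _) ?_
    refine (Submodule.ne_bot_iff _).2 ⟨_, exponents_eigen hξ (hz ▸ hΩ), fun h0 => hc01 ?_⟩
    rw [hz]
    funext m
    refine orderOf_dvd_iff_zpow_eq_one.1 ?_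
    rw [hξ, ← ZMod.intCast_zmod_eq_zero_iff_dvd]
    exact congrFun h0 m
  have hN := wmat_pow hF Kc (fun i h0 => hrW (by
    have h := hdd i
    rw [h0, zero_dvd_iff] at h
    rw [h]; exact dvd_zero r)) ω
  have hreg : ∀ s : Fin D.nroots, torChar D c0 s.val ≠ 1 := by
    intro s hs
    obtain ⟨Ω, hΩ, hdet⟩ := reflection_word hF c0 s hs
    have h1 := hchar ω hact
    have h2 := hchar (ω ++ Ω) (by rw [wmat_append, act_mul, hΩ, hact])
    have h3 : (wmat (ω ++ Ω)).det = (wmat ω).det := by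
      rw [Matrix.det_eq_sign_charpoly_coeff, h2, ← h1, ← Matrix.det_eq_sign_charpoly_coeff]
    rw [wmat_append, Matrix.det_mul, hdet] at h3
    have h4 := congrArg Matrix.det hN
    rw [Matrix.det_pow, Matrix.det_one, show (wmat ω).det = 0 by omega,
      zero_pow Nat.card_pos.ne'] at h4
    exact zero_ne_one h4
  refine ⟨x, ω, c, x.2, c.2, hchar ω hact, fun h hh => ⟨fun hhx => ?_, fun hhT => ?_⟩,
    fun z hz hzc => centralizer_eq_T hF Kc hdd hlen hrW hc0r hc01 hreg hz (hzc c0), ?_⟩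
  · refine centralizer_eq_T hF Kc hdd hlen hrW hc0r hc01 hreg
      (mul_mem (mul_mem c.2 (group_le hF f hh)) (inv_mem c.2)) ?_
    rw [hc0]
    show (c : GL D.Idx L) * gmap f h * (c : GL D.Idx L)⁻¹ * ((c : GL D.Idx L) * gmap f x * (c : GL D.Idx L)⁻¹) =
      (c : GL D.Idx L) * gmap f x * (c : GL D.Idx L)⁻¹ * ((c : GL D.Idx L) * gmap f h * (c : GL D.Idx L)⁻¹)
    calc _ = (c : GL D.Idx L) * gmap f (h * (x : GL D.Idx F)) * (c : GL D.Idx L)⁻¹ := by rw [map_mul]; group
      _ = _ := by rw [hhx, map_mul]; group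
  · refine gmap_injective f ?_
    rw [map_mul, map_mul]
    have h1 := H_comm hF hhT ((mem_T hF).1 hyT)
    have h2 : (y : GL D.Idx L) = (c : GL D.Idx L) * gmap f x * (c : GL D.Idx L)⁻¹ := rfl
    rw [h2] at h1
    calc gmap f h * gmap f (x : GL D.Idx F) = (c : GL D.Idx L)⁻¹ * ((c : GL D.Idx L) * gmap f h * (c : GL D.Idx L)⁻¹ *
          ((c : GL D.Idx L) * gmap f (x : GL D.Idx F) * (c : GL D.Idx L)⁻¹)) * (c : GL D.Idx L) := by group
      _ = _ := by rw [h1]; group
  · intro e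
    show ((σG c * c⁻¹ : ↥(D.group L)) : GL D.Idx L) * torus D L e * ((σG c * c⁻¹ : ↥(D.group L)) : GL D.Idx L)⁻¹ = _
    set g : GL D.Idx L := ((σG c * c⁻¹ : ↥(D.group L)) : GL D.Idx L)
    have hnG : n ∈ D.group L := mul_mem (by
      obtain ⟨e, rfl⟩ := exists_torus hF ha
      exact hF.torus_mem_group e) (hF.nW_mem_group w)
    have e4 : g * torus D L c0 * g⁻¹ = n * torus D L c0 * n⁻¹ := by
      rw [hn' c0, hact, ← hsig, hc0]
      exact congrArg Subtype.val e1
    have h5 : n⁻¹ * g ∈ (hF.tsys L).H := centralizer_eq_T hF Kc hdd hlen hrW hc0r hc01 hreg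
      (mul_mem (inv_mem hnG) (σG c * c⁻¹).2) (by
        calc n⁻¹ * g * torus D L c0 = n⁻¹ * (g * torus D L c0 * g⁻¹) * g := by group
          _ = _ := by rw [e4]; group)
    calc g * torus D L e * g⁻¹ = n * (n⁻¹ * g * torus D L e * (n⁻¹ * g)⁻¹) * n⁻¹ := by group
      _ = _ := by rw [H_comm hF h5 (torus_mem_H hF e), mul_inv_cancel_right, hn']

end Cfsg.Agent.Small.SelfCent
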