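import Cfsg.Agent.Lib.Small.SelfCent.Main
import Cfsg.Agent.Lib.Lie.MinusculeRep

/-!
Change of field and field automorphisms on the presented group: how a twisted torus lifts.
-/

set_option autoImplicit false
set_option linter.unusedSectionVars false

namespace Cfsg.Agent.Small.SelfCent

open Cfsg.Lie Cfsg.Agent.Lie Cfsg.Agent.Small.ChevInvol Cfsg.Agent.Small.SylowHom Matrix
open scoped MatrixGroups

variable {D : ChevalleyDatum} (hF : Facts D) {F L : Type*} [Field F] [Field L]

theorem st_word_map (f : F →+* L) (w : List (ℕ × F)) :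
    FreeGroup.lift (fun p : Fin D.nroots × F => D.stGen L p.1.val (f p.2)) (D.stWord w) =
      ((w.map fun p => (p.1, f p.2)).map fun p => D.stGen L p.1 p.2).prod := by
  rw [ChevalleyDatum.stWord, map_list_prod, List.map_map, List.map_map]
  refine congrArg List.prod (List.map_congr_left fun p _ => ?_)
  show FreeGroup.lift _ (D.stX p.1 p.2) = D.stGen L p.1 (f p.2)
  unfold ChevalleyDatum.stX
  split_ifs with h
  · simp
  · rw [map_one, Facts.stGen_out (not_lt.1 h)]

include hF in
theorem st_map_rels (f : F →+* L) : ∀ g ∈ D.steinbergRels F,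
    FreeGroup.lift (fun p : Fin D.nroots × F => D.stGen L p.1.val (f p.2)) g = 1 := by
  have hX : ∀ r t, FreeGroup.lift (fun p : Fin D.nroots × F => D.stGen L p.1.val (f p.2)) (D.stX r t) =
      D.stGen L r (f t) := by
    intro r t
    unfold ChevalleyDatum.stX
    split_ifs with h
    · simp
    · rw [map_one, Facts.stGen_out (not_lt.1 h)]
  rintro g ((⟨r, t, u, hr, rfl⟩ | ⟨r, s, t, u, hr, hs, h1, h2, rfl⟩) | ⟨r, t, u, hr, ht, hu, rfl⟩)
  · simp only [map_mul, map_inv, hX]
    rw [map_add, mul_inv_eq_one]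
    exact ((hF.stC L).x_add r (f t) (f u)).symm
  · simp only [map_mul, map_inv, hX, st_word_map]
    have h := (hF.stC L).x_comm r s hr hs h1 h2 (f t) (f u)
    simp only [Facts.stC_x] at h
    have e : (D.commWord F r s t u).map (fun p => (p.1, f p.2)) = D.commWord L r s (f t) (f u) := by
      simp only [ChevalleyDatum.commWord, List.map_map]
      refine List.map_congr_left fun d _ => ?_
      simp [map_intCast]
    rw [e, mul_inv_eq_one, mul_assoc (_ * _), h]
    group
  · simp only [map_mul, map_inv, ChevalleyDatum.stH, st_word_map]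
    have e : ∀ (r : ℕ) (v : F), (D.hWord r v).map (fun p => (p.1, f p.2)) = D.hWord r (f v) := fun r v => by
      simp [ChevalleyDatum.hWord, ChevalleyDatum.nWord]
    rw [e, e, e, map_mul, mul_inv_eq_one]
    have h := Facts.st_rel (F := L) (D := D)
      (Or.inr ⟨r, f t, f u, hr, (map_ne_zero f).2 ht, (map_ne_zero f).2 hu, rfl⟩)
    rw [map_mul, map_mul, map_inv, mul_inv_eq_one] at h
    simp only [ChevalleyDatum.stH, Facts.mk_stWord] at h
    exact h

/-- The presented group is functorial in the field. -/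
noncomputable def stMap (f : F →+* L) : D.SteinbergGroup F →* D.SteinbergGroup L :=
  PresentedGroup.toGroup (st_map_rels hF f)

theorem stMap_x (f : F →+* L) (r : ℕ) (t : F) : stMap hF f (D.stGen F r t) = D.stGen L r (f t) := by
  by_cases hr : r < D.nroots
  · rw [ChevalleyDatum.stGen, ChevalleyDatum.stX, dif_pos hr]
    exact PresentedGroup.toGroup.of (st_map_rels hF f)
  · rw [Facts.stGen_out (not_lt.1 hr), map_one, Facts.stGen_out (not_lt.1 hr)]

theorem st_hom_ext {Γ : Type*} [Group Γ] {a b : D.SteinbergGroup F →* Γ}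
    (h : ∀ r, r < D.nroots → ∀ t, a (D.stGen F r t) = b (D.stGen F r t)) : a = b := by
  refine PresentedGroup.ext fun p => ?_
  have e : PresentedGroup.of (rels := D.steinbergRels F) p = D.stGen F p.1.val p.2 := by
    rw [ChevalleyDatum.stGen, ChevalleyDatum.stX, dif_pos p.1.isLt]; rfl
  rw [e]
  exact h _ p.1.isLt _

theorem proj_stMap (f : F →+* L) (z : D.SteinbergGroup F) :
    hF.proj L (stMap hF f z) = gmap f (hF.proj F z) := by
  have h : (hF.proj L).comp (stMap hF f) = (gmap f).comp (hF.proj F) := st_hom_ext fun r _ t => by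
    rw [MonoidHom.comp_apply, MonoidHom.comp_apply, stMap_x, Facts.proj_x, Facts.proj_x, Facts.gmap_xg]
  exact DFunLike.congr_fun h z

include hF in
theorem exists_preimage {g : GL D.Idx F} (hg : g ∈ D.group F) : ∃ z, hF.proj F z = g := by
  rw [hF.group_eq] at hg
  induction hg using Subgroup.closure_induction with
  | mem y hy => obtain ⟨⟨r, t⟩, rfl⟩ := hy; exact ⟨D.stGen F r t, hF.proj_x r t⟩
  | one => exact ⟨1, map_one _⟩
  | mul a b _ _ ha hb => obtain ⟨u, rfl⟩ := ha; obtain ⟨v, rfl⟩ := hb; exact ⟨u * v, map_mul _ _ _⟩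
  | inv a _ ha => obtain ⟨u, rfl⟩ := ha; exact ⟨u⁻¹, map_inv _ _⟩

theorem stMap_h (hH : StHyp D) (f : F →+* L) (i : ℕ) (t : F) :
    stMap hF f ((hF.stT hH F).h i t) = (hF.stT hH L).h i (f t) := by
  simp [TorusSys.h, TorusSys.n, nElt, Facts.stT_x, stMap_x]

variable (hH : StHyp D) {ψ : (Fin D.rank → Lˣ) →* D.SteinbergGroup L}
  (hψ : ∀ j u, ψ (Pi.mulSingle j u) = (hF.stT hH L).h (D.simple j.val) (u : L))

include hψ in
theorem nS_psi (i : Fin D.rank) (c : Fin D.rank → Lˣ) :
    (hF.stT hH L).nS i * ψ c * ((hF.stT hH L).nS i)⁻¹ = ψ (act (smat i) c) := by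
  let a : (Fin D.rank → Lˣ) →* D.SteinbergGroup L := (MulAut.conj ((hF.stT hH L).nS i)).toMonoidHom.comp ψ
  let b : (Fin D.rank → Lˣ) →* D.SteinbergGroup L := ψ.comp (MonoidHom.mk' (act (smat i)) (act_mul_fun _))
  suffices h : a = b from DFunLike.congr_fun h c
  refine MonoidHom.pi_ext fun j u => ?_
  show (hF.stT hH L).nS i * ψ (Pi.mulSingle j u) * ((hF.stT hH L).nS i)⁻¹ = ψ (act (smat i) (Pi.mulSingle j u))
  set S := hF.stT hH L
  have e1 : torChar D (Pi.mulSingle j u : Fin D.rank → Lˣ) (D.simple i.val) = u ^ D.cartan j.val (D.simple i.val) := by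
    rw [torChar, Finset.prod_eq_single j (fun b _ hb => by rw [Pi.mulSingle_eq_of_ne hb, _root_.one_zpow])
      (fun h => absurd (Finset.mem_univ j) h), Pi.mulSingle_eq_same]
  have h1 := hF.h_conj_n (F := L) hH u.ne_zero i (1 : L) (j := j)
  rw [mul_one, S.n_eq_h_mul (D.simple i.val) ((u : L) ^ D.cartan j.val (D.simple i.val))] at h1
  have h2 : S.h (D.simple j.val) (u : L) * S.nS i * (S.h (D.simple j.val) (u : L))⁻¹ =
      S.h (D.simple i.val) ((u : L) ^ D.cartan j.val (D.simple i.val)) * S.nS i := h1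
  rw [act_smat, reflT, map_mul, e1, Pi.mulSingle_inv, map_inv, hψ, hψ, Units.val_zpow_eq_zpow_val]
  calc S.nS i * S.h (D.simple j.val) (u : L) * (S.nS i)⁻¹
      = S.nS i * (S.h (D.simple j.val) (u : L) * S.nS i * (S.h (D.simple j.val) (u : L))⁻¹)⁻¹ *
          S.h (D.simple j.val) (u : L) := by group
    _ = (S.h (D.simple i.val) ((u : L) ^ D.cartan j.val (D.simple i.val)))⁻¹ * S.h (D.simple j.val) (u : L) := by
        rw [h2]; group
    _ = _ := by rw [← hψ, ← Units.val_zpow_eq_zpow_val, ← hψ, ← map_inv, ← map_mul, mul_comm, map_mul]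

include hψ in
theorem nw_psi (ω : List (Fin D.rank)) (c : Fin D.rank → Lˣ) :
    (hF.stT hH L).nw ω * ψ c * ((hF.stT hH L).nw ω)⁻¹ = ψ (act (wmat ω) c) := by
  induction ω with
  | nil => simp [TorusSys.nw_nil, wmat, act_one]
  | cons i ω ih =>
    rw [wmat_cons, act_mul, ← nS_psi hF hH hψ, ← ih, TorusSys.nw_cons]
    group

include hψ in
theorem stMap_psi {ψ₀ : (Fin D.rank → Fˣ) →* D.SteinbergGroup F}
    (hψ₀ : ∀ j u, ψ₀ (Pi.mulSingle j u) = (hF.stT hH F).h (D.simple j.val) (u : F)) (f : F →+* L)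
    (c : Fin D.rank → Fˣ) : stMap hF f (ψ₀ c) = ψ (fun m => Units.map f.toMonoidHom (c m)) := by
  let b : (Fin D.rank → Fˣ) →* D.SteinbergGroup L :=
    ψ.comp (MonoidHom.mk' (fun c m => Units.map f.toMonoidHom (c m)) fun x y => funext fun m => map_mul _ _ _)
  suffices h : (stMap hF f).comp ψ₀ = b from DFunLike.congr_fun h c
  refine MonoidHom.pi_ext fun j u => ?_
  show stMap hF f (ψ₀ (Pi.mulSingle j u)) = ψ (fun m => Units.map f.toMonoidHom ((Pi.mulSingle j u : Fin D.rank → Fˣ) m))
  rw [hψ₀, stMap_h, show (fun m => Units.map f.toMonoidHom ((Pi.mulSingle j u : Fin D.rank → Fˣ) m)) =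
    (Pi.mulSingle j (Units.map f.toMonoidHom u) : Fin D.rank → Lˣ) from funext fun m => by
      by_cases h : m = j
      · subst h; simp
      · simp [h], hψ]
  rfl

end Cfsg.Agent.Small.SelfCent
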